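import Mathlib
import Cfsg.Prelude.Def_Transfer

/-!
The orbit count for a self-centralising elementary abelian subgroup of order `2^11` whose
normalizer controls its fusion: no class of outer elements has to be known in advance.
-/

set_option autoImplicit false

namespace H33
namespace FiLocal

open Cfsg

variable {G : Type*} [Group G] [Finite G]

/-- The possible numbers other than 1771 have a large prime divisor. -/
theorem big_prime : ∀ n ∈ [91, 331, 571, 1531, 2011], ∃ p ∈ [13, 331, 571, 1531, 2011],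
    p ∣ n ∧ ∀ k < 12, k ≠ 0 → ¬ p ∣ 2 ^ k - 1 := by decide +kernel

theorem ord_twentythree : ∀ k < 11, k ≠ 0 → ¬ 23 ∣ 2 ^ k - 1 := by decide +kernel

/-- The elements of `A` commuting with `m`. -/
def fixedIn (A : Subgroup G) (m : G) : Subgroup G := A ⊓ Subgroup.centralizer ({m} : Set G)

/-- An invariant set and its fixed points have the same size modulo the order. -/
theorem ncard_modEq {p : ℕ} [Fact p.Prime] {m : G} (hm : orderOf m = p) {S : Set G}
    (hS : ∀ a ∈ S, m * a * m⁻¹ ∈ S) :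
    S.ncard ≡ {a ∈ S | m * a = a * m}.ncard [MOD p] := by
  classical
  haveI : Fintype ↥S := Fintype.ofFinite _
  let f : Function.End ↥S := fun a => ⟨m * a * m⁻¹, hS a a.2⟩
  have hpow : ∀ k : ℕ, ∀ a : ↥S, (((f ^ k) a : ↥S) : G) = m ^ k * a * (m ^ k)⁻¹ := by
    intro k
    induction k with
    | zero => intro a; rw [pow_zero]; simp only [pow_zero, one_mul, inv_one, mul_one]; rfl
    | succ k ih =>
      intro a
      rw [pow_succ, pow_succ]
      show (((f ^ k) (f a) : ↥S) : G) = _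
      rw [ih, show ((f a : ↥S) : G) = m * a * m⁻¹ from rfl]
      group
  have hf : f ^ p ^ 1 = 1 := by
    funext a
    refine Subtype.ext ?_
    rw [pow_one, hpow, ← hm, pow_orderOf_eq_one]
    simp only [one_mul, inv_one, mul_one]
    rfl
  have h := Equiv.Perm.card_fixedPoints_modEq hf
  rw [← Nat.card_eq_fintype_card, ← Nat.card_eq_fintype_card, Nat.card_coe_set_eq] at h
  refine h.trans (congrArg (· % p) ?_)
  rw [← Nat.card_coe_set_eq {a ∈ S | m * a = a * m}]
  exact Nat.card_congr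
    { toFun := fun a => ⟨a.1.1, a.1.2, mul_inv_eq_iff_eq_mul.1 (congrArg Subtype.val a.2)⟩
      invFun := fun a => ⟨⟨a.1, a.2.1⟩, Subtype.ext (mul_inv_eq_iff_eq_mul.2 a.2.2)⟩
      left_inv := fun _ => rfl
      right_inv := fun _ => rfl }

/-- A prime-order element of the normalizer either centralises `A` or has few fixed points. -/
theorem fixed_card {A : Subgroup G} (hA : IsElementaryAbelian 2 A) (hcard : Nat.card A = 2 ^ 11)
    {p : ℕ} [Fact p.Prime] (hp2 : p ≠ 2) {m : G} (hm : orderOf m = p)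
    (hn : ∀ a ∈ A, m * a * m⁻¹ ∈ A) :
    ∃ k ≤ 11, p ∣ 2 ^ (11 - k) - 1 ∧ {a ∈ (A : Set G) | m * a = a * m}.ncard = 2 ^ k := by
  have hset : {a ∈ (A : Set G) | m * a = a * m} = (fixedIn A m : Set G) := by
    ext a
    simp [fixedIn, Subgroup.mem_centralizer_singleton_iff, eq_comm]
  obtain ⟨k, hk, e⟩ : ∃ k ≤ 11, Nat.card ↥(fixedIn A m) = 2 ^ k :=
    (Nat.dvd_prime_pow Nat.prime_two).1 (hcard ▸ Subgroup.card_dvd_of_le inf_le_left)
  have e' : {a ∈ (A : Set G) | m * a = a * m}.ncard = 2 ^ k := by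
    rw [hset, ← e, ← Nat.card_coe_set_eq]; rfl
  refine ⟨k, hk, ?_, e'⟩
  have h := ncard_modEq hm (S := (A : Set G)) hn
  rw [e', show (A : Set G).ncard = 2 ^ 11 by rw [← Nat.card_coe_set_eq]; exact hcard] at h
  have hd : p ∣ 2 ^ k * (2 ^ (11 - k) - 1) := by
    rw [Nat.mul_sub, ← pow_add, Nat.add_sub_cancel' hk, mul_one]
    exact (Nat.modEq_iff_dvd' (Nat.pow_le_pow_right (by norm_num) hk)).1 h.symm
  refine ((Nat.Prime.coprime_iff_not_dvd (Fact.out : p.Prime)).2 ?_).dvd_of_dvd_mul_left hd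
  intro h2
  exact hp2 ((Nat.prime_dvd_prime_iff_eq Fact.out Nat.prime_two).1 (Fact.out (p := p.Prime).dvd_of_dvd_pow h2))

theorem centralizes_of_big {A : Subgroup G} (hA : IsElementaryAbelian 2 A)
    (hcard : Nat.card A = 2 ^ 11) {p : ℕ} [Fact p.Prime] (hp2 : p ≠ 2)
    (hbig : ∀ k < 12, k ≠ 0 → ¬ p ∣ 2 ^ k - 1) {m : G} (hm : orderOf m = p)
    (hn : ∀ a ∈ A, m * a * m⁻¹ ∈ A) : ∀ a ∈ A, m * a * m⁻¹ = a := by
  obtain ⟨k, hk, hd, e⟩ := fixed_card hA hcard hp2 hm hn
  have hk11 : k = 11 := by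
    by_contra h
    exact hbig (11 - k) (by omega) (by omega) hd
  have hall : {a ∈ (A : Set G) | m * a = a * m} = (A : Set G) := by
    refine Set.eq_of_subset_of_ncard_le (fun a ha => ha.1) ?_ (Set.toFinite _)
    rw [e, hk11, ← hcard, ← Nat.card_coe_set_eq]
    rfl
  intro a ha
  rw [← SetLike.mem_coe, ← hall] at ha
  exact mul_inv_eq_iff_eq_mul.2 ha.2

/-- An orbit under conjugation has the size of the index of the centralizer. -/
theorem card_eq_orbit_mul {M : Subgroup G} (z : G) :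
    Nat.card M = ((fun m => m * z * m⁻¹) '' (M : Set G)).ncard *
      Nat.card ↥(M ⊓ Subgroup.centralizer ({z} : Set G)) := by
  set C := M ⊓ Subgroup.centralizer ({z} : Set G) with hCdef
  have hmemC : ∀ g, g ∈ C ↔ g ∈ M ∧ g * z = z * g := fun g => by
    rw [hCdef, Subgroup.mem_inf, Subgroup.mem_centralizer_singleton_iff]
  have hi : (C.subgroupOf M).index = ((fun m => m * z * m⁻¹) '' (M : Set G)).ncard := by
    rw [← Nat.card_coe_set_eq]
    refine Nat.card_congr (Equiv.ofBijective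
      (Quotient.lift (fun m : ↥M => (⟨(m : G) * z * (m : G)⁻¹, ⟨m, m.2, rfl⟩⟩ :
        ↥((fun m => m * z * m⁻¹) '' (M : Set G)))) ?_) ⟨?_, ?_⟩)
    · intro x y hxy
      have h : (x⁻¹ * y : ↥M) ∈ C.subgroupOf M := QuotientGroup.leftRel_apply.1 hxy
      have h' := ((hmemC _).1 (Subgroup.mem_subgroupOf.1 h)).2
      simp only [Subgroup.coe_mul, Subgroup.coe_inv] at h'
      refine Subtype.ext ?_
      show (x : G) * z * (x : G)⁻¹ = (y : G) * z * (y : G)⁻¹
      calc (x : G) * z * (x : G)⁻¹ = (x : G) * (z * ((x : G)⁻¹ * y)) * (y : G)⁻¹ := by group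
        _ = (x : G) * ((x : G)⁻¹ * y * z) * (y : G)⁻¹ := by rw [h']
        _ = _ := by group
    · intro p q
      refine Quotient.inductionOn₂ p q fun x y h => Quotient.sound ?_
      have h' : (x : G) * z * (x : G)⁻¹ = (y : G) * z * (y : G)⁻¹ := congrArg Subtype.val h
      show QuotientGroup.leftRel (C.subgroupOf M) x y
      rw [QuotientGroup.leftRel_apply, Subgroup.mem_subgroupOf, hmemC]
      refine ⟨SetLike.coe_mem _, ?_⟩
      simp only [Subgroup.coe_mul, Subgroup.coe_inv]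
      calc (x : G)⁻¹ * y * z = (x : G)⁻¹ * ((y : G) * z * (y : G)⁻¹) * y := by group
        _ = (x : G)⁻¹ * ((x : G) * z * (x : G)⁻¹) * y := by rw [h']
        _ = _ := by group
    · rintro ⟨_, m, hm, rfl⟩
      exact ⟨Quotient.mk _ ⟨m, hm⟩, rfl⟩
  have := (C.subgroupOf M).card_mul_index
  rw [hi, Nat.card_congr (Subgroup.subgroupOfEquivOfLe (inf_le_left : C ≤ M)).toEquiv] at this
  rw [← this, mul_comm]

/-- The data at the involution `z`. -/
structure Parts (A M : Subgroup G) (z : G) where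
  P : Fin 5 → Set G
  sub : ∀ i, P i ⊆ {a | a ∈ A ∧ a ≠ 1 ∧ a ≠ z}
  cover : ∀ a ∈ A, a ≠ 1 → a ≠ z → ∃ i, a ∈ P i
  disj : ∀ i j a, a ∈ P i → a ∈ P j → i = j
  card : ∀ i, (P i).ncard = ![90, 36, 240, 240, 1440] i
  orbit : ∀ i, ∀ a ∈ P i, ∀ b ∈ P i, ∃ m ∈ M, m * a * m⁻¹ = b
  isZ : ∀ a ∈ P 0, IsConj z a
  notZ : ∀ a ∈ P 1, ¬ IsConj z a

theorem orbit_count {A M : Subgroup G} {z : G} (hA : IsElementaryAbelian 2 A)
    (hcard : Nat.card A = 2 ^ 11) (hz : z ∈ A) (hz2 : orderOf z = 2)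
    (hnorm : ∀ m ∈ M, ∀ a ∈ A, m * a * m⁻¹ ∈ A)
    (hself : ∀ m ∈ M, (∀ a ∈ A, m * a * m⁻¹ = a) → m ∈ A)
    (hfus : ∀ a ∈ A, ∀ g : G, g * a * g⁻¹ ∈ A → ∃ m ∈ M, m * a * m⁻¹ = g * a * g⁻¹)
    (D : Parts A M z) :
    {a : G | a ∈ A ∧ IsConj z a}.ncard = 1771 ∧
      {a : G | a ∈ A ∧ a ≠ 1 ∧ ¬ IsConj z a}.ncard = 276 ∧
      Nat.card M = 1771 * Nat.card ↥(M ⊓ Subgroup.centralizer ({z} : Set G)) ∧
      (∀ a ∈ A, ∀ b ∈ A, a ≠ 1 → b ≠ 1 → (IsConj z a ↔ IsConj z b) →
        ∃ m ∈ M, m * a * m⁻¹ = b) := by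
  classical
  have hz1 : z ≠ 1 := fun e => by rw [e, orderOf_one] at hz2; omega
  set Z : Set G := {a : G | a ∈ A ∧ IsConj z a} with hZdef
  set N : Set G := {a : G | a ∈ A ∧ a ≠ 1 ∧ ¬ IsConj z a} with hNdef
  have hconjM : ∀ m ∈ M, ∀ a, IsConj z a → IsConj z (m * a * m⁻¹) := fun m _ a h =>
    h.trans (isConj_iff.2 ⟨m, rfl⟩)
  -- each part is homogeneous
  have hhom : ∀ i, ∀ a ∈ D.P i, ∀ b ∈ D.P i, IsConj z a → IsConj z b := by
    intro i a ha b hb h
    obtain ⟨m, hm, rfl⟩ := D.orbit i a ha b hb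
    exact hconjM m hm a h
  -- the indicator of the parts inside the class
  let ε : Fin 5 → ℕ := fun i => if ∃ a ∈ D.P i, IsConj z a then 1 else 0
  have hne : ∀ i, (D.P i).Nonempty := fun i => Set.nonempty_of_ncard_ne_zero (by
    rw [D.card]; fin_cases i <;> simp)
  have hε0 : ε 0 = 1 := if_pos ⟨_, (hne 0).some_mem, D.isZ _ (hne 0).some_mem⟩
  have hε1 : ε 1 = 0 := if_neg fun ⟨a, ha, h⟩ => D.notZ a ha h
  have hin : ∀ i, (D.P i ∩ Z).ncard = ε i * (D.P i).ncard := by
    intro i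
    by_cases h : ∃ a ∈ D.P i, IsConj z a
    · obtain ⟨a, ha, hza⟩ := h
      rw [show ε i = 1 from if_pos ⟨a, ha, hza⟩, one_mul]
      congr 1
      exact Set.inter_eq_left.2 fun b hb => ⟨(D.sub i hb).1, hhom i a ha b hb hza⟩
    · rw [show ε i = 0 from if_neg h, zero_mul, Set.ncard_eq_zero (Set.toFinite _)]
      exact Set.eq_empty_iff_forall_notMem.2 fun b hb => h ⟨b, hb.1, hb.2.2⟩
  let F : Finset (Fin 5) := Finset.univ
  have hsplit : ∀ S : Set G, S ⊆ {a | a ∈ A ∧ a ≠ 1 ∧ a ≠ z} →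
      S.ncard = ∑ i, (D.P i ∩ S).ncard := by
    intro S hS
    have hu : S = ⋃ i, (D.P i ∩ S) := by
      ext a
      simp only [Set.mem_iUnion, Set.mem_inter_iff]
      refine ⟨fun ha => ?_, fun ⟨_, _, ha⟩ => ha⟩
      obtain ⟨h1, h2, h3⟩ := hS ha
      obtain ⟨i, hi⟩ := D.cover a h1 h2 h3
      exact ⟨i, hi, ha⟩
    conv_lhs => rw [hu]
    rw [Set.ncard_iUnion_of_finite (fun i => Set.toFinite _), finsum_eq_sum_of_fintype]
    intro i j hij
    exact Set.disjoint_left.2 fun a ha hb => hij (D.disj i j a ha.1 hb.1)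
  have hcardZ : Z.ncard = 91 + 240 * ε 2 + 240 * ε 3 + 1440 * ε 4 := by
    have hzZ : z ∈ Z := ⟨hz, IsConj.refl z⟩
    rw [← Set.ncard_sdiff_singleton_add_one hzZ (Set.toFinite _), hsplit (Z \ {z}) (fun a ha => ⟨ha.1.1,
      fun e => by
        subst e
        exact hz1 (isConj_one_right.1 ha.1.2.symm), ha.2⟩)]
    have : ∀ i, D.P i ∩ (Z \ {z}) = D.P i ∩ Z := fun i => by
      ext a
      exact ⟨fun h => ⟨h.1, h.2.1⟩, fun h => ⟨h.1, h.2, (D.sub i h.1).2.2⟩⟩
    simp only [this, hin, D.card, Fin.sum_univ_five, hε0, hε1]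
    simp only [Matrix.cons_val_zero, Matrix.cons_val_one, Matrix.cons_val, Matrix.head_cons]
    ring
  -- the orbit of z
  have horbZ : (fun m => m * z * m⁻¹) '' (M : Set G) = Z := by
    ext a
    constructor
    · rintro ⟨m, hm, rfl⟩
      exact ⟨hnorm m hm z hz, hconjM m hm z (IsConj.refl z)⟩
    · rintro ⟨ha, h⟩
      obtain ⟨g, rfl⟩ := isConj_iff.1 h
      obtain ⟨m, hm, e⟩ := hfus z hz g ha
      exact ⟨m, hm, e⟩
  have hM := card_eq_orbit_mul (M := M) z
  rw [horbZ] at hM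
  have hnot : ∀ n ∈ [91, 331, 571, 1531, 2011], Z.ncard ≠ n := by
    intro n hn e
    obtain ⟨p, hp, hpn, hbig⟩ := big_prime n hn
    have hpp : p.Prime ∧ p ≠ 2 := by fin_cases hp <;> norm_num
    haveI := Fact.mk hpp.1
    obtain ⟨m, hm⟩ := exists_prime_orderOf_dvd_card' (G := ↥M) p
      (hM ▸ e ▸ hpn.mul_right _)
    have hm' : orderOf (m : G) = p := by rw [Subgroup.orderOf_coe]; exact hm
    have hmA := hself m m.2 (centralizes_of_big hA hcard hpp.2 hbig hm' (hnorm m m.2))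
    have h2 : orderOf (m : G) ∣ 2 := orderOf_dvd_of_pow_eq_one (hA.2 _ hmA)
    rw [hm'] at h2
    exact hpp.2 ((Nat.prime_dvd_prime_iff_eq hpp.1 Nat.prime_two).1 h2)
  have hε : ∀ i, ε i ≤ 1 := fun i => by simp only [ε]; split <;> omega
  have h1771 : Z.ncard = 1771 := by
    have h2 := hε 2
    have h3 := hε 3
    have h4 := hε 4
    have := hnot 91 (by simp)
    have := hnot 331 (by simp)
    have := hnot 571 (by simp)
    have := hnot 1531 (by simp)
    have := hnot 2011 (by simp)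
    interval_cases (ε 2) <;> interval_cases (ε 3) <;> interval_cases (ε 4) <;> omega
  have hNcard : N.ncard = 276 := by
    have hu : (A : Set G) = ({1} ∪ Z) ∪ N := by
      ext a
      simp only [Z, N, Set.mem_union, Set.mem_singleton_iff, Set.mem_setOf_eq, SetLike.mem_coe]
      constructor
      · intro ha
        by_cases h1 : a = 1
        · exact Or.inl (Or.inl h1)
        · by_cases h2 : IsConj z a
          · exact Or.inl (Or.inr ⟨ha, h2⟩)
          · exact Or.inr ⟨ha, h1, h2⟩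
      · rintro ((rfl | ⟨ha, -⟩) | ⟨ha, -, -⟩)
        exacts [A.one_mem, ha, ha]
    have hd1 : Disjoint ({1} : Set G) Z := Set.disjoint_singleton_left.2 fun h =>
      hz1 (isConj_one_right.1 h.2.symm)
    have hd2 : Disjoint ({1} ∪ Z) N := Set.disjoint_left.2 fun a ha hb => by
      rcases ha with rfl | ha
      · exact hb.2.1 rfl
      · exact hb.2.2 ha.2
    have e := congrArg Set.ncard hu
    rw [Set.ncard_union_eq hd2, Set.ncard_union_eq hd1, Set.ncard_singleton, h1771,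
      ← Nat.card_coe_set_eq, show Nat.card (A : Set G) = 2 ^ 11 from hcard] at e
    norm_num at e
    omega
  refine ⟨h1771, hNcard, h1771 ▸ hM, fun a ha b hb ha1 hb1 hiff => ?_⟩
  by_cases hza : IsConj z a
  · obtain ⟨m1, hm1, e1⟩ := (horbZ.symm ▸ (⟨ha, hza⟩ : a ∈ Z) : a ∈ (fun m => m * z * m⁻¹) '' (M : Set G))
    obtain ⟨m2, hm2, e2⟩ :=
      (horbZ.symm ▸ (⟨hb, hiff.1 hza⟩ : b ∈ Z) : b ∈ (fun m => m * z * m⁻¹) '' (M : Set G))
    refine ⟨m2 * m1⁻¹, mul_mem hm2 (inv_mem hm1), ?_⟩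
    simp only at e1 e2
    rw [← e1, ← e2]
    group
  · -- the orbit of a non-conjugate has size divisible by 23
    haveI : Fact (Nat.Prime 23) := ⟨by norm_num⟩
    obtain ⟨x, hx⟩ := exists_prime_orderOf_dvd_card' (G := ↥M) 23
      (hM ▸ h1771 ▸ Dvd.dvd.mul_right (by norm_num) _)
    have hx' : orderOf (x : G) = 23 := by rw [Subgroup.orderOf_coe]; exact hx
    obtain ⟨k, hk, hkd, hfix⟩ := fixed_card hA hcard (by norm_num) hx' (hnorm x x.2)
    have hk0 : k = 0 := by
      by_contra hk0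
      rcases Nat.lt_or_ge k 11 with h | h
      · exact ord_twentythree (11 - k) (by omega) (by omega) hkd
      · have hk11 : k = 11 := by omega
        have hall : {c ∈ (A : Set G) | (x : G) * c = c * x} = (A : Set G) := by
          refine Set.eq_of_subset_of_ncard_le (fun c hc => hc.1) ?_ (Set.toFinite _)
          rw [hfix, hk11, ← Nat.card_coe_set_eq]
          exact hcard.le
        have hmA := hself x x.2 fun c hc => by
          rw [← SetLike.mem_coe, ← hall] at hc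
          exact mul_inv_eq_iff_eq_mul.2 hc.2
        have h2 : orderOf (x : G) ∣ 2 := orderOf_dvd_of_pow_eq_one (hA.2 _ hmA)
        rw [hx'] at h2
        norm_num at h2
    set O : Set G := (fun m => m * a * m⁻¹) '' (M : Set G) with hOdef
    have hON : O ⊆ N := by
      rintro _ ⟨m, hm, rfl⟩
      exact ⟨hnorm m hm a ha, fun e => ha1 (conj_eq_one_iff.1 e),
        fun h => hza (h.trans (isConj_iff.2 ⟨m⁻¹, by group⟩))⟩
    have hO23 : 23 ∣ O.ncard := by
      have h := ncard_modEq hx' (S := O) (by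
        rintro _ ⟨m, hm, rfl⟩
        exact ⟨x * m, mul_mem x.2 hm, by group⟩)
      have hempty : {c ∈ O | (x : G) * c = c * x}.ncard = 0 := by
        rw [Set.ncard_eq_zero (Set.toFinite _)]
        refine Set.eq_empty_iff_forall_notMem.2 fun c hc => ?_
        obtain ⟨s, hs⟩ := Set.ncard_eq_one.1 (hk0 ▸ hfix : _ = 2 ^ 0)
        have h1 : (1 : G) ∈ ({s} : Set G) := hs ▸ ⟨A.one_mem, by simp⟩
        have h2 : c ∈ ({s} : Set G) := hs ▸ ⟨(hON hc.1).1, hc.2⟩
        exact (hON hc.1).2.1 ((Set.mem_singleton_iff.1 h2).trans (Set.mem_singleton_iff.1 h1).symm)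
      rw [hempty] at h
      exact Nat.modEq_zero_iff_dvd.1 h
    -- O is a union of parts inside N
    let δ : Fin 5 → ℕ := fun i => if ∃ c ∈ D.P i, c ∈ O then 1 else 0
    have hOin : ∀ i, (D.P i ∩ O).ncard = δ i * (D.P i).ncard := by
      intro i
      by_cases h : ∃ c ∈ D.P i, c ∈ O
      · obtain ⟨c, hc, hcO⟩ := h
        rw [show δ i = 1 from if_pos ⟨c, hc, hcO⟩, one_mul]
        congr 1
        refine Set.inter_eq_left.2 fun d hd => ?_
        obtain ⟨m, hm, rfl⟩ := hcO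
        obtain ⟨m', hm', e'⟩ := D.orbit i _ hc d hd
        exact ⟨m' * m, mul_mem hm' hm, by rw [← e']; group⟩
      · rw [show δ i = 0 from if_neg h, zero_mul, Set.ncard_eq_zero (Set.toFinite _)]
        exact Set.eq_empty_iff_forall_notMem.2 fun d hd => h ⟨d, hd.1, hd.2⟩
    have hδε : ∀ i, δ i + ε i ≤ 1 := by
      intro i
      simp only [δ, ε]
      by_cases h : ∃ c ∈ D.P i, c ∈ O
      · obtain ⟨c, hc, hcO⟩ := h
        rw [if_pos ⟨c, hc, hcO⟩, if_neg fun ⟨d, hd, hzd⟩ => (hON hcO).2.2 (hhom i d hd c hc hzd)]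
      · rw [if_neg h]
        split <;> omega
    have hOcard : O.ncard = 90 * δ 0 + 36 * δ 1 + 240 * δ 2 + 240 * δ 3 + 1440 * δ 4 := by
      rw [hsplit O (fun c hc => ⟨(hON hc).1, (hON hc).2.1,
        fun e => (hON hc).2.2 (e ▸ IsConj.refl z)⟩)]
      simp only [hOin, D.card, Fin.sum_univ_five]
      simp only [Matrix.cons_val_zero, Matrix.cons_val_one, Matrix.cons_val, Matrix.head_cons]
      ring
    have haO : a ∈ O := ⟨1, M.one_mem, by simp⟩
    have hpos : 0 < O.ncard := (Set.ncard_pos (Set.toFinite _)).2 ⟨a, haO⟩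
    have hO276 : O.ncard = 276 := by
      have d0 := hδε 0
      have d1 := hδε 1
      have d2 := hδε 2
      have d3 := hδε 3
      have d4 := hδε 4
      omega
    have hOeq : O = N := Set.eq_of_subset_of_ncard_le hON (by rw [hO276, hNcard]) (Set.toFinite _)
    have hbN : b ∈ N := ⟨hb, hb1, fun h => hza (hiff.2 h)⟩
    rw [← hOeq] at hbN
    obtain ⟨m, hm, e⟩ := hbN
    exact ⟨m, hm, e⟩

end FiLocal
end H33
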