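import Cfsg.Agent.H33.FiLocal.PartsBase

/-!
The five parts of the subgroup of lifts under the elements of the centraliser normalising it.
-/

set_option autoImplicit false
set_option maxRecDepth 100000

namespace H33
namespace FiLocal

open H16.Fi24 H59.Fi24

universe u

/-- The commutator space of the first involution, by the two functionals. -/
def inRv (u : W) : Prop := inU u ∧ Bf (dec U0.c1) u = 0 ∧ Bf (dec U0.c2) u = 0

theorem inRv_iff {u : W} : inRv u ↔ code u ∈ U0.RC := by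
  refine ⟨fun h => U0.R_dual u h.1 h.2.1 h.2.2, fun h => ?_⟩
  have := U0.R_perp _ h
  rwa [dec_code] at this

theorem ncard_inRv : {v : W | inRv v}.ncard = 16 := by
  have hinj : Function.Injective code := fun a b e => by rw [← dec_code a, e, dec_code]
  rw [← Set.ncard_image_of_injective _ hinj, ← U0.RC_nodup.2.1,
    ← List.toFinset_card_of_nodup U0.RC_nodup.1, ← Set.ncard_coe_finset]
  congr 1
  ext c
  simp only [Set.mem_image, Set.mem_setOf_eq, List.coe_toFinset]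
  constructor
  · rintro ⟨v, hv, rfl⟩
    exact inRv_iff.1 hv
  · intro hc
    refine ⟨dec c, ?_, code_dec ?_⟩
    · exact U0.R_perp c hc
    · have h : ∀ r ∈ U0.RC, r < 4096 := by decide +kernel
      exact h c hc

theorem ncard_not_inRv : {v : W | inU v ∧ ¬ inRv v}.ncard = 48 := by
  classical
  have hU : {v : W | inU v}.ncard = 64 := by
    rw [← card_U, ← Set.ncard_coe_finset]
    congr 1
    ext v
    simp
  have h : {v : W | inU v ∧ ¬ inRv v} = {v : W | inU v} \ {v : W | inRv v} := rfl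
  rw [h, Set.ncard_sdiff (fun v hv => hv.1) (Set.toFinite _), hU, ncard_inRv]

theorem bf_c_fix {a1 : Equiv.Perm W} (ha : IsUni a1) (hk : key a1 = U0.a1K) :
    a1 (dec U0.c1) = dec U0.c1 ∧ a1 (dec U0.c2) = dec U0.c2 := by
  obtain ⟨h1, h2, -⟩ := U0.dual
  have h : ∀ c : ℕ, c < 4096 → appN U0.a1K c = c → a1 (dec c) = dec c := fun c hc e => by
    rw [← dec_code (a1 (dec c)), ← appN_key ha, hk, code_dec hc, e]
  exact ⟨h _ (by decide) h1, h _ (by decide) h2⟩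

theorem two_add : ∀ a b : ZMod 2, a + b = 0 → a = b := by decide

theorem zmod_two_ne : ∀ a : ZMod 2, a ≠ 0 → a = 1 := by decide

variable {G : Type u} [Group G] [Finite G] {z : G}
  {Q : Subgroup (Subgroup.centralizer ({z} : Set G))} [Q.Normal] {D : Model z Q}

/-- A lift of the first involution not moved to its product with the centre. -/
structure Base (D : Model z Q) where
  a1 : Equiv.Perm W
  ha1 : a1 ∈ AA
  hkey : key a1 = U0.a1K
  b0 : Subgroup.centralizer ({z} : Set G)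
  hb0 : b0 ∈ CC D
  hρ : D.ρ b0 = a1
  fix : ∀ y ∈ Q, a1 (D.Φ y) = D.Φ y → y * b0 = b0 * y

theorem zc_mem_Wt (D : Model z Q) : zc z ∈ Wt D :=
  ⟨D.zc_mem, by rw [phi_zc D]; exact inU_zero⟩

theorem Wt_le_CC (D : Model z Q) : Wt D ≤ CC D := fun _ hx => ((CC_inf_Q D).ge hx).1

theorem Wt_of_rho {x y : Subgroup.centralizer ({z} : Set G)} (hx : x ∈ CC D) (hy : y ∈ CC D)
    (e : D.ρ x = D.ρ y) : x⁻¹ * y ∈ Wt D :=
  (CC_inf_Q D).le ⟨(CC D).mul_mem ((CC D).inv_mem hx) hy,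
    mem_Q_of_rho D (by rw [map_mul, map_inv, e, inv_mul_cancel])⟩

theorem zc_ne_one (hz : orderOf z = 2) : (zc z : Subgroup.centralizer ({z} : Set G)) ≠ 1 := fun e => by
  have := congrArg Subtype.val e
  simp only [zc, Subgroup.coe_one] at this
  rw [this, orderOf_one] at hz; omega

theorem zc_sq (hz : orderOf z = 2) : (zc z : Subgroup.centralizer ({z} : Set G)) * zc z = 1 :=
  Subtype.ext (by
    simp only [Subgroup.coe_mul, zc, Subgroup.coe_one]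
    rw [← pow_two, ← hz, pow_orderOf_eq_one])

omit [Finite G] [Q.Normal] in
theorem conj_mul_zc (g x : Subgroup.centralizer ({z} : Set G)) :
    g * (x * zc z) * g⁻¹ = g * x * g⁻¹ * zc z := by
  calc g * (x * zc z) * g⁻¹ = g * x * (zc z * g⁻¹) := by group
    _ = g * x * (g⁻¹ * zc z) := by rw [zc_comm]
    _ = _ := by group

/-- Conjugation inside the normal subgroup. -/
theorem conj_Q {y w : Subgroup.centralizer ({z} : Set G)} (hy : y ∈ Q) (hw : w ∈ Q) :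
    (Bf (D.Φ w) (D.Φ y) = 0 → y * w * y⁻¹ = w) ∧ (Bf (D.Φ w) (D.Φ y) ≠ 0 → y * w * y⁻¹ = w * zc z) := by
  have hΦ : D.Φ (y * w * y⁻¹) = D.Φ w := by
    rw [← D.conj y w hw, rho_Q D hy]
    rfl
  refine ⟨fun h => mul_inv_eq_iff_eq_mul.2 ((D.comm w hw y hy).2 h).symm, fun h => ?_⟩
  rcases eq_or_zc D (Subgroup.Normal.conj_mem inferInstance w hw y) hw hΦ with e | e
  · exact absurd ((D.comm w hw y hy).1 (mul_inv_eq_iff_eq_mul.1 e).symm) h
  · exact e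

theorem comm_phi {x y : Subgroup.centralizer ({z} : Set G)} (hy : y ∈ Q) :
    D.Φ (y * x * y⁻¹ * x⁻¹) = D.Φ y + D.ρ x (D.Φ y) := by
  rw [show y * x * y⁻¹ * x⁻¹ = y * (x * y⁻¹ * x⁻¹) by group,
    D.map_mul y hy _ (Subgroup.Normal.conj_mem inferInstance _ (inv_mem hy) x),
    ← D.conj x _ (inv_mem hy), phi_inv D hy]

theorem exists_base (hz : orderOf z = 2) (D : Model z Q) : Nonempty (Base D) := by
  obtain ⟨a1, ha1, -, hk⟩ := exists_four certA (k := LA.getD 1 0) (getD_mem (by decide))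
  rw [U0.a1K_eq] at hk
  obtain ⟨b, hb, hρ⟩ := exists_CC D hz ha1
  have hu := isUni_K0 ha1.1
  obtain ⟨hf1, hf2⟩ := bf_c_fix hu hk
  obtain ⟨-, -, hu1, hu2, b11, b12, b21, b22⟩ := U0.dual
  obtain ⟨y1, hy1, e1⟩ := D.surj (dec U0.c1)
  obtain ⟨y2, hy2, e2⟩ := D.surj (dec U0.c2)
  obtain ⟨w1, hw1, f1⟩ := D.surj (dec U0.u1)
  obtain ⟨w2, hw2, f2⟩ := D.surj (dec U0.u2)
  have hW1 : w1 ∈ Wt D := ⟨hw1, f1.symm ▸ hu1⟩
  have hW2 : w2 ∈ Wt D := ⟨hw2, f2.symm ▸ hu2⟩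
  have hbd : ∀ y ∈ Q, a1 (D.Φ y) = D.Φ y → y * b * y⁻¹ = b ∨ y * b * y⁻¹ = b * zc z := by
    intro y hy hf
    have hm : y * b * y⁻¹ * b⁻¹ ∈ Q := by
      rw [show y * b * y⁻¹ * b⁻¹ = y * (b * y⁻¹ * b⁻¹) by group]
      exact mul_mem hy (Subgroup.Normal.conj_mem inferInstance _ (inv_mem hy) b)
    have h0 : D.Φ (y * b * y⁻¹ * b⁻¹) = 0 := by
      rw [comm_phi hy, hρ, hf, ← ZModModule.sub_eq_add, sub_self]
    rcases (D.eq_zero _ hm).1 h0 with h | h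
    · exact Or.inl (mul_inv_eq_one.1 (Subtype.ext h))
    · have h' : y * b * y⁻¹ * b⁻¹ = zc z := Subtype.ext h
      exact Or.inr (by rw [mul_inv_eq_iff_eq_mul.1 h', zc_comm])
  classical
  set t1 : Subgroup.centralizer ({z} : Set G) := if y1 * b * y1⁻¹ = b then 1 else w1 with ht1
  set t2 : Subgroup.centralizer ({z} : Set G) := if y2 * b * y2⁻¹ = b then 1 else w2 with ht2
  have ht1m : t1 ∈ Wt D := by rw [ht1]; split; exacts [one_mem _, hW1]
  have ht2m : t2 ∈ Wt D := by rw [ht2]; split; exacts [one_mem _, hW2]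
  -- the corrections
  have k11 : y1 * w1 * y1⁻¹ = w1 * zc z := (conj_Q (D := D) hy1 hw1).2 (by
    rw [f1, e1, Bf_symm, b11]; decide)
  have k12 : y1 * w2 * y1⁻¹ = w2 := (conj_Q (D := D) hy1 hw2).1 (by rw [f2, e1, Bf_symm, b12])
  have k21 : y2 * w1 * y2⁻¹ = w1 := (conj_Q (D := D) hy2 hw1).1 (by rw [f1, e2, Bf_symm, b21])
  have k22 : y2 * w2 * y2⁻¹ = w2 * zc z := (conj_Q (D := D) hy2 hw2).2 (by
    rw [f2, e2, Bf_symm, b22]; decide)
  have hz1 := zc_ne_one (z := z) hz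
  have hz2 := zc_sq (z := z) hz
  set b0 := b * (t1 * t2) with hb0def
  have hb0 : b0 ∈ CC D := mul_mem hb (Wt_le_CC D (mul_mem ht1m ht2m))
  have hρ0 : D.ρ b0 = a1 := by
    rw [hb0def, map_mul, rho_Q D (mul_mem ht1m ht2m).1, mul_one, hρ]
  have hc1 : y1 * b0 * y1⁻¹ = b0 := by
    have h2 : y1 * t2 * y1⁻¹ = t2 := by rw [ht2]; split; exacts [by group, k12]
    rw [hb0def, show y1 * (b * (t1 * t2)) * y1⁻¹ =
      (y1 * b * y1⁻¹) * (y1 * t1 * y1⁻¹) * (y1 * t2 * y1⁻¹) by group, h2]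
    rcases hbd y1 hy1 (e1.symm ▸ hf1) with h | h
    · rw [ht1, if_pos h, h]; group
    · have hne : y1 * b * y1⁻¹ ≠ b := fun h0 => hz1 (left_eq_mul.mp (h0.symm.trans h))
      rw [ht1, if_neg hne, h, k11]
      calc b * zc z * (w1 * zc z) * t2 = b * (zc z * w1) * zc z * t2 := by group
        _ = b * (w1 * zc z) * zc z * t2 := by rw [← zc_comm w1]
        _ = b * w1 * (zc z * zc z) * t2 := by group
        _ = b * (w1 * t2) := by rw [hz2]; group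
  have hc2 : y2 * b0 * y2⁻¹ = b0 := by
    have h1 : y2 * t1 * y2⁻¹ = t1 := by rw [ht1]; split; exacts [by group, k21]
    rw [hb0def, show y2 * (b * (t1 * t2)) * y2⁻¹ =
      (y2 * b * y2⁻¹) * (y2 * t1 * y2⁻¹) * (y2 * t2 * y2⁻¹) by group, h1]
    rcases hbd y2 hy2 (e2.symm ▸ hf2) with h | h
    · rw [ht2, if_pos h, h]; group
    · have hne : y2 * b * y2⁻¹ ≠ b := fun h0 => hz1 (left_eq_mul.mp (h0.symm.trans h))
      rw [ht2, if_neg hne, h, k22]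
      calc b * zc z * t1 * (w2 * zc z) = b * (zc z * (t1 * w2)) * zc z := by group
        _ = b * (t1 * w2 * zc z) * zc z := by rw [← zc_comm (t1 * w2)]
        _ = b * (t1 * w2) * (zc z * zc z) := by group
        _ = b * (t1 * w2) := by rw [hz2, mul_one]
  refine ⟨⟨a1, ha1, hk, b0, hb0, hρ0, fun y hy hf => ?_⟩⟩
  let K := Subgroup.centralizer ({b0} : Set (Subgroup.centralizer ({z} : Set G)))
  have hK1 : y1 ∈ K := Subgroup.mem_centralizer_singleton_iff.2 (mul_inv_eq_iff_eq_mul.1 hc1)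
  have hK2 : y2 ∈ K := Subgroup.mem_centralizer_singleton_iff.2 (mul_inv_eq_iff_eq_mul.1 hc2)
  have hKW : ∀ w ∈ Wt D, w ∈ K := fun w hw =>
    Subgroup.mem_centralizer_singleton_iff.2 (((mem_CC D).1 hb0).2 w hw).symm
  set r1 : Subgroup.centralizer ({z} : Set G) := if Bf (D.Φ y) (dec U0.u1) = 0 then 1 else y1 with hr1
  set r2 : Subgroup.centralizer ({z} : Set G) := if Bf (D.Φ y) (dec U0.u2) = 0 then 1 else y2 with hr2
  have hr1m : r1 ∈ Q ∧ r1 ∈ K := by rw [hr1]; split; exacts [⟨one_mem _, one_mem _⟩, ⟨hy1, hK1⟩]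
  have hr2m : r2 ∈ Q ∧ r2 ∈ K := by rw [hr2]; split; exacts [⟨one_mem _, one_mem _⟩, ⟨hy2, hK2⟩]
  have hphi : D.Φ (y * r1 * r2) = D.Φ y + D.Φ r1 + D.Φ r2 := by
    rw [D.map_mul _ (mul_mem hy hr1m.1) _ hr2m.1, D.map_mul _ hy _ hr1m.1]
  have hfix1 : a1 (D.Φ r1) = D.Φ r1 := by
    rw [hr1]; split
    · rw [phi_one D]; exact fix_U_AA inU_zero ha1
    · rw [e1]; exact hf1
  have hfix2 : a1 (D.Φ r2) = D.Φ r2 := by
    rw [hr2]; split
    · rw [phi_one D]; exact fix_U_AA inU_zero ha1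
    · rw [e2]; exact hf2
  have hB : ∀ u : W, Bf (D.Φ (y * r1 * r2)) u = Bf (D.Φ y) u + Bf (D.Φ r1) u + Bf (D.Φ r2) u := fun u => by
    rw [hphi, Bf_add_left, Bf_add_left]
  have hmem : y * r1 * r2 ∈ Wt D := by
    refine ⟨mul_mem (mul_mem hy hr1m.1) hr2m.1, U0.fix_C _ ?_ ?_ ?_⟩
    · rw [← hk, appN_key hu, hphi, hu.add, hu.add, hf, hfix1, hfix2]
    · rw [hB, hr1, hr2]
      have h0 : ∀ u, Bf (0 : W) u = 0 := fun u => by rw [Bf_symm]; exact Bf_zero u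
      by_cases p : Bf (D.Φ y) (dec U0.u1) = 0 <;> by_cases q : Bf (D.Φ y) (dec U0.u2) = 0 <;>
        simp only [p, q, if_true, if_false, phi_one D, e1, e2, h0, b11, b21] <;>
        first
          | rfl
          | (rw [zmod_two_ne _ p]; decide)
    · rw [hB, hr1, hr2]
      have h0 : ∀ u, Bf (0 : W) u = 0 := fun u => by rw [Bf_symm]; exact Bf_zero u
      by_cases p : Bf (D.Φ y) (dec U0.u1) = 0 <;> by_cases q : Bf (D.Φ y) (dec U0.u2) = 0 <;>
        simp only [p, q, if_true, if_false, phi_one D, e1, e2, h0, b12, b22] <;>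
        first
          | rfl
          | (rw [zmod_two_ne _ q]; decide)
  have : y ∈ K := by
    have h := mul_mem (mul_mem (hKW _ hmem) (inv_mem hr2m.2)) (inv_mem hr1m.2)
    rwa [show y * r1 * r2 * r2⁻¹ * r1⁻¹ = y by group] at h
  exact Subgroup.mem_centralizer_singleton_iff.1 this

namespace Base

variable (B : Base D)

theorem uni : IsUni B.a1 := isUni_K0 B.ha1.1

/-- Conjugation of the fibre. -/
theorem conj_fibre {y w : Subgroup.centralizer ({z} : Set G)} (hy : y ∈ Q) (hw : w ∈ Wt D) :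
    ∃ w' ∈ Wt D, y * (B.b0 * w) * y⁻¹ = B.b0 * w' ∧
      D.Φ w' = D.Φ w + (D.Φ y + B.a1 (D.Φ y)) := by
  set t := y * B.b0 * y⁻¹ * B.b0⁻¹ with ht
  have hyb : y * B.b0 * y⁻¹ ∈ CC D := Lg_CC D (Q_le_Lg D hy) B.hb0
  have htm : t ∈ Wt D := (CC_inf_Q D).le ⟨(CC D).mul_mem hyb ((CC D).inv_mem B.hb0), by
    rw [ht, show y * B.b0 * y⁻¹ * B.b0⁻¹ = y * (B.b0 * y⁻¹ * B.b0⁻¹) by group]
    exact mul_mem hy (Subgroup.Normal.conj_mem inferInstance _ (inv_mem hy) B.b0)⟩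
  have htb : t * B.b0 = B.b0 * t := (((mem_CC D).1 B.hb0).2 t htm).symm
  have hw2 : y * w * y⁻¹ ∈ Wt D := conj_Wt D (fun v hv => Lg_U D (Q_le_Lg D hy) hv) hw
  refine ⟨t * (y * w * y⁻¹), mul_mem htm hw2, ?_, ?_⟩
  · rw [← mul_assoc B.b0, ← htb, ht]; group
  · rw [D.map_mul t htm.1 _ hw2.1, ← D.conj y w hw.1, rho_Q D hy, Equiv.Perm.one_apply, ht,
      comm_phi hy, B.hρ, add_comm]

theorem fix_move {y w : Subgroup.centralizer ({z} : Set G)} (hy : y ∈ Q) (hw : w ∈ Wt D)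
    (hf : B.a1 (D.Φ y) = D.Φ y) (hne : Bf (D.Φ w) (D.Φ y) ≠ 0) :
    y * (B.b0 * w) * y⁻¹ = B.b0 * w * zc z := by
  rw [show y * (B.b0 * w) * y⁻¹ = (y * B.b0 * y⁻¹) * (y * w * y⁻¹) by group,
    mul_inv_eq_iff_eq_mul.2 (B.fix y hy hf), (conj_Q (D := D) hy hw.1).2 hne, mul_assoc]

theorem no_move (hz : orderOf z = 2) {y : Subgroup.centralizer ({z} : Set G)} (hy : y ∈ Q) :
    y * B.b0 * y⁻¹ ≠ B.b0 * zc z := by
  intro e
  have h0 : D.Φ y + B.a1 (D.Φ y) = 0 := by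
    have h := comm_phi (D := D) (x := B.b0) hy
    rw [e, B.hρ, zc_comm B.b0, mul_inv_cancel_right, phi_zc D] at h
    exact h.symm
  have hf : B.a1 (D.Φ y) = D.Φ y :=
    ((eq_neg_of_add_eq_zero_left h0).trans (ZModModule.neg_eq_self _)).symm
  rw [mul_inv_eq_iff_eq_mul.2 (B.fix y hy hf)] at e
  exact zc_ne_one hz (left_eq_mul.mp e)

theorem exists_moving {w : Subgroup.centralizer ({z} : Set G)} (hw : w ∈ Wt D)
    (h : ¬ inRv (D.Φ w)) : ∃ y ∈ Q, y * (B.b0 * w) * y⁻¹ = B.b0 * w * zc z := by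
  obtain ⟨hf1, hf2⟩ := bf_c_fix B.uni B.hkey
  by_cases h1 : Bf (dec U0.c1) (D.Φ w) = 0
  · obtain ⟨y, hy, e⟩ := D.surj (dec U0.c2)
    refine ⟨y, hy, B.fix_move hy hw (e.symm ▸ hf2) ?_⟩
    rw [e, Bf_symm]
    exact fun h2 => h ⟨hw.2, h1, h2⟩
  · obtain ⟨y, hy, e⟩ := D.surj (dec U0.c1)
    refine ⟨y, hy, B.fix_move hy hw (e.symm ▸ hf1) ?_⟩
    rw [e, Bf_symm]
    exact h1

/-- The image of a conjugator. -/
theorem exists_shift {u : W} (hu : inRv u) : ∃ y ∈ Q, D.Φ y + B.a1 (D.Φ y) = u := by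
  obtain ⟨i, hi, e⟩ := exists_getD_of_mem (d := 0) (inRv_iff.1 hu)
  rw [U0.RC_nodup.2.1] at hi
  obtain ⟨h1, h2⟩ := U0.RC_pre i hi
  obtain ⟨y, hy, ey⟩ := D.surj (dec (U0.RP.getD i 0))
  refine ⟨y, hy, ?_⟩
  have ha : B.a1 (dec (U0.RP.getD i 0)) = dec (appN U0.a1K (U0.RP.getD i 0)) := by
    rw [← dec_code (B.a1 _), ← appN_key B.uni, B.hkey, code_dec h1]
  rw [ey, ha, add_comm, ← dec_xor, h2, e, dec_code]

theorem rel_small (hz : orderOf z = 2) {w : Subgroup.centralizer ({z} : Set G)} (hw : w ∈ Wt D)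
    (h : inRv (D.Φ w)) : Rel D B.b0 (B.b0 * w) ∨ Rel D (B.b0 * zc z) (B.b0 * w) := by
  obtain ⟨y, hy, ey⟩ := B.exists_shift h
  obtain ⟨w', hw', e, hΦ⟩ := B.conj_fibre hy (one_mem (Wt D))
  rw [phi_one D, zero_add, ey] at hΦ
  rw [mul_one] at e
  rcases eq_or_zc D hw'.1 hw.1 hΦ with e' | e'
  · exact Or.inl ⟨y, Q_le_Lg D hy, e' ▸ e⟩
  · refine Or.inr ⟨y, Q_le_Lg D hy, ?_⟩
    rw [conj_mul_zc, e, e', ← mul_assoc, mul_assoc (B.b0 * w), zc_sq hz, mul_one]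

theorem rel_large (hz : orderOf z = 2) {w w' : Subgroup.centralizer ({z} : Set G)} (hw : w ∈ Wt D)
    (hw' : w' ∈ Wt D) (h' : ¬ inRv (D.Φ w'))
    (e1 : Bf (dec U0.c1) (D.Φ w) = Bf (dec U0.c1) (D.Φ w'))
    (e2 : Bf (dec U0.c2) (D.Φ w) = Bf (dec U0.c2) (D.Φ w')) :
    Rel D (B.b0 * w) (B.b0 * w') := by
  have two : ∀ a : ZMod 2, a + a = 0 := by decide
  have hd : inRv (D.Φ w + D.Φ w') :=
    ⟨inU_add hw.2 hw'.2, by rw [Bf_add_right, e1, two], by rw [Bf_add_right, e2, two]⟩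
  obtain ⟨y, hy, ey⟩ := B.exists_shift hd
  obtain ⟨v, hv, e, hΦ⟩ := B.conj_fibre hy hw
  rw [ey, ← add_assoc, ← ZModModule.sub_eq_add (D.Φ w) (D.Φ w), sub_self, zero_add] at hΦ
  have h1 : Rel D (B.b0 * w) (B.b0 * v) := ⟨y, Q_le_Lg D hy, e⟩
  rcases eq_or_zc D hv.1 hw'.1 hΦ with e' | e'
  · exact e' ▸ h1
  · refine h1.trans ?_
    obtain ⟨y', hy', em⟩ := B.exists_moving hw' h'
    refine Rel.symm ⟨y', Q_le_Lg D hy', ?_⟩
    rw [em, e', mul_assoc]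

/-- All moved elements of the fibre are related. -/
theorem rel_moving (hz : orderOf z = 2) {w w' : Subgroup.centralizer ({z} : Set G)} (hw : w ∈ Wt D)
    (h : ¬ inRv (D.Φ w)) (hw' : w' ∈ Wt D) (h' : ¬ inRv (D.Φ w')) :
    Rel D (B.b0 * w) (B.b0 * w') := by
  obtain ⟨-, -, hu1, hu2, b11, b12, b21, b22⟩ := U0.dual
  obtain ⟨hpk, hp6, hpc, hp1, hp2⟩ := U0.per_ok
  obtain ⟨g, hg, hgn, hga, hgk⟩ := exists_word U0.perW hp6
  obtain ⟨h0, hh0, hρh⟩ := exists_Lg D hg hgn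
  have hgu := isUni_K0 hg
  have hkg : key g = U0.perK := by rw [hgk, hpk]
  have hga1 : g * B.a1 = B.a1 * g := key_K0_inj (mul_mem hg B.ha1.1) (mul_mem B.ha1.1 hg) (by
    rw [key_K0_mul hg, key_K0_mul B.ha1.1, hkg, B.hkey, hpc])
  obtain ⟨w1, hw1, f1⟩ := D.surj (dec U0.u1)
  obtain ⟨w2, hw2, f2⟩ := D.surj (dec U0.u2)
  have hW1 : w1 ∈ Wt D := ⟨hw1, f1.symm ▸ hu1⟩
  have hW2 : w2 ∈ Wt D := ⟨hw2, f2.symm ▸ hu2⟩
  -- the image of the base
  have hhb : h0 * B.b0 * h0⁻¹ ∈ CC D := Lg_CC D hh0 B.hb0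
  have hρb : D.ρ (h0 * B.b0 * h0⁻¹) = B.a1 := by
    rw [map_mul, map_mul, map_inv, hρh, B.hρ, hga1, mul_inv_cancel_right]
  set v0 := B.b0⁻¹ * (h0 * B.b0 * h0⁻¹) with hv0
  have hv0m : v0 ∈ Wt D := Wt_of_rho B.hb0 hhb (B.hρ.trans hρb.symm)
  have hv0r : inRv (D.Φ v0) := by
    by_contra hno
    obtain ⟨y, hy, e⟩ := B.exists_moving hv0m hno
    rw [hv0, mul_inv_cancel_left] at e
    refine B.no_move hz (Subgroup.Normal.conj_mem inferInstance y hy h0⁻¹) ?_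
    calc h0⁻¹ * y * h0⁻¹⁻¹ * B.b0 * (h0⁻¹ * y * h0⁻¹⁻¹)⁻¹
        = h0⁻¹ * (y * (h0 * B.b0 * h0⁻¹) * y⁻¹) * h0 := by group
      _ = h0⁻¹ * (h0 * (B.b0 * zc z) * h0⁻¹) * h0 := by rw [e, conj_mul_zc]
      _ = B.b0 * zc z := by group
  -- the image of a lift of a vector
  have himg : ∀ (u : W) (x : Subgroup.centralizer ({z} : Set G)), x ∈ Wt D → D.Φ x = u →
      ∃ x' ∈ Wt D, Rel D (B.b0 * x) (B.b0 * x') ∧ D.Φ x' = D.Φ v0 + g u := by
    intro u x hx ex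
    have hx' : h0 * x * h0⁻¹ ∈ Wt D := conj_Wt D (fun v hv => Lg_U D hh0 hv) hx
    refine ⟨v0 * (h0 * x * h0⁻¹), mul_mem hv0m hx', ⟨h0, hh0, ?_⟩, ?_⟩
    · rw [← mul_assoc B.b0, hv0, mul_inv_cancel_left]; group
    · rw [D.map_mul _ hv0m.1 _ hx'.1, ← D.conj h0 x hx.1, hρh, ex]
  obtain ⟨x2, hx2, hr2, hΦ2⟩ := himg _ w1 hW1 f1
  obtain ⟨x3, hx3, hr3, hΦ3⟩ := himg _ w2 hW2 f2
  have hgcode : ∀ c : ℕ, c < 4096 → g (dec c) = dec (appN U0.perK c) := fun c hc => by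
    rw [← dec_code (g (dec c)), ← appN_key hgu, hkg, code_dec hc]
  have hq1 : ∀ c, (c = dec U0.c1 ∨ c = dec U0.c2) → Bf c (D.Φ x2) = Bf c (dec U0.u2) ∧
      Bf c (D.Φ x3) = Bf c (dec U0.u1) + Bf c (dec U0.u2) := by
    intro c hc
    have hz0 : Bf c (D.Φ v0) = 0 := by
      rcases hc with rfl | rfl
      exacts [hv0r.2.1, hv0r.2.2]
    have hr : ∀ r ∈ U0.RC, Bf c (dec r) = 0 := fun r hr => by
      rcases hc with rfl | rfl
      exacts [(U0.R_perp r hr).2.1, (U0.R_perp r hr).2.2]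
    refine ⟨?_, ?_⟩
    · rw [hΦ2, Bf_add_right, hz0, zero_add, hgcode _ (by decide)]
      refine two_add _ _ ?_
      rw [← Bf_add_right, ← dec_xor]
      exact hr _ hp1
    · rw [hΦ3, Bf_add_right, hz0, zero_add, hgcode _ (by decide), ← Bf_add_right, ← dec_xor]
      refine two_add _ _ ?_
      rw [← Bf_add_right, ← dec_xor]
      exact hr _ hp2
  obtain ⟨q11, q12⟩ := hq1 _ (Or.inl rfl)
  obtain ⟨q21, q22⟩ := hq1 _ (Or.inr rfl)
  rw [b12] at q11; rw [b11, b12] at q12; rw [b22] at q21; rw [b21, b22] at q22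
  have n1 : ¬ inRv (D.Φ w1) := fun hh => by
    rw [f1] at hh; exact absurd (b11.symm.trans hh.2.1) (by decide)
  have n2 : ¬ inRv (D.Φ w2) := fun hh => by
    rw [f2] at hh; exact absurd (b22.symm.trans hh.2.2) (by decide)
  have r12 : Rel D (B.b0 * w1) (B.b0 * w2) := hr2.trans (B.rel_large hz hx2 hW2 n2
    (by rw [q11, f2, b12]) (by rw [q21, f2, b22]))
  -- everything moved is related to the first
  suffices key : ∀ v ∈ Wt D, ¬ inRv (D.Φ v) → Rel D (B.b0 * w1) (B.b0 * v) from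
    (key w hw h).symm.trans (key w' hw' h')
  intro v hv hnv
  by_cases p : Bf (dec U0.c1) (D.Φ v) = 0
  · have q : Bf (dec U0.c2) (D.Φ v) = 1 := zmod_two_ne _ fun q => hnv ⟨hv.2, p, q⟩
    exact r12.trans (B.rel_large hz hW2 hv hnv (by rw [f2, b12, p]) (by rw [f2, b22, q]))
  · have p' := zmod_two_ne _ p
    by_cases q : Bf (dec U0.c2) (D.Φ v) = 0
    · exact B.rel_large hz hW1 hv hnv (by rw [f1, b11, p']) (by rw [f1, b21, q])
    · exact (r12.trans hr3).trans (B.rel_large hz hx3 hv hnv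
        (by rw [q12, p']; decide) (by rw [q22, zmod_two_ne _ q]; decide))

theorem exists_to (p : Equiv.Perm W) (hp : p ∈ AA) (hp1 : p ≠ 1) :
    ∃ g ∈ Lg D, D.ρ g * B.a1 * (D.ρ g)⁻¹ = p := by
  suffices key : ∀ (d a : ℕ), (ntree.getD a (0, 0, 0)).2.2 = d → 1 ≤ a → a < 16 →
      ∀ p ∈ AA, key p = LA.getD a 0 → ∃ g ∈ Lg D, D.ρ g * B.a1 * (D.ρ g)⁻¹ = p by
    rcases LA_index _ hp.2 with h | ⟨a, ha, ha0, e⟩
    · exact absurd ((key_eq_one hp.1).1 h) hp1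
    · exact key _ a rfl ha0 ha p hp e.symm
  intro d
  induction d using Nat.strong_induction_on with
  | _ d ih =>
    intro a hd h1 h16 p hp hk
    rcases ntree_ok a h16 with h | ⟨hi, hp16, hp0, hdep, hperm⟩
    · obtain rfl : a = 1 := le_antisymm h h1
      refine ⟨1, one_mem _, ?_⟩
      rw [map_one, one_mul, inv_one, mul_one]
      exact key_K0_inj B.ha1.1 hp.1 (by rw [B.hkey, hk, U0.a1K_eq])
    · obtain ⟨q, hq, -, hkq⟩ := exists_four certA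
        (k := LA.getD (ntree.getD a (0, 0, 0)).2.1 0) (getD_mem (show _ < LA.length from hp16))
      obtain ⟨p', hp', hkp', e⟩ := nw_norm hi hp16 hq hkq
      rw [hperm] at hkp'
      obtain ⟨g, hg, eg⟩ := ih _ (hd ▸ hdep) _ rfl hp0 hp16 q hq hkq
      obtain ⟨n, hn, en⟩ := exists_Lg D (wordP_mem (nw.getD (ntree.getD a (0, 0, 0)).1 []))
        (mem_norm_AA.2 fun x hx => nw_norm_all hi hx)
      refine ⟨n * g, mul_mem hn hg, ?_⟩
      have hpe : p = p' := key_K0_inj hp.1 hp'.1 (hk.trans hkp'.symm)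
      rw [hpe, ← e, ← eg, map_mul, en]
      group

end Base

theorem nonempty_parts (hF : Cfsg.IsOfLargeFischerTypeAt z Q) (D : Model z Q) :
    Nonempty (Parts (AG D) (Subgroup.normalizer (AG D : Set G)) z) := by
  classical
  have hz := hF.1.1
  obtain ⟨B⟩ := exists_base hz D
  let I : ℕ → Set (Subgroup.centralizer ({z} : Set G)) := fun k =>
    {x | x ∈ Q ∧ D.Φ x ∈ {v : W | inU v ∧ lab v = k}}
  let Ps : Set (Equiv.Perm W) := {p | p ∈ AA ∧ p ≠ 1}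
  choose! gP hgP hgPe using fun (p : Equiv.Perm W) (hp : p ∈ Ps) => B.exists_to p hp.1 hp.2
  let F : Equiv.Perm W × Subgroup.centralizer ({z} : Set G) → Subgroup.centralizer ({z} : Set G) :=
    fun q => gP q.1 * (B.b0 * q.2) * (gP q.1)⁻¹
  let Sm : Set (Subgroup.centralizer ({z} : Set G)) := {w | w ∈ Q ∧ D.Φ w ∈ {v : W | inRv v}}
  let La : Set (Subgroup.centralizer ({z} : Set G)) := {w | w ∈ Q ∧ D.Φ w ∈ {v : W | inU v ∧ ¬ inRv v}}
  let E := F '' (Ps ×ˢ Sm)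
  let M4 := F '' (Ps ×ˢ La)
  have hSm : ∀ w ∈ Sm, w ∈ Wt D := fun w hw => ⟨hw.1, hw.2.1⟩
  have hLa : ∀ w ∈ La, w ∈ Wt D := fun w hw => ⟨hw.1, hw.2.1⟩
  have hFρ : ∀ q : Equiv.Perm W × Subgroup.centralizer ({z} : Set G), q.1 ∈ Ps → q.2 ∈ Wt D →
      F q ∈ CC D ∧ D.ρ (F q) = q.1 := fun q hq hw =>
    ⟨Lg_CC D (hgP _ hq) (mul_mem B.hb0 (Wt_le_CC D hw)), by
      simp only [F, map_mul, map_inv, rho_Q D hw.1, mul_one, B.hρ]
      exact hgPe _ hq⟩
  have hFinj : ∀ q q' : Equiv.Perm W × Subgroup.centralizer ({z} : Set G), q.1 ∈ Ps → q.2 ∈ Wt D →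
      q'.1 ∈ Ps → q'.2 ∈ Wt D → F q = F q' → q = q' := by
    intro q q' h1 h2 h1' h2' e
    have e1 : q.1 = q'.1 := by rw [← (hFρ q h1 h2).2, e, (hFρ q' h1' h2').2]
    refine Prod.ext e1 ?_
    simp only [F, e1, mul_left_inj, mul_right_inj] at e
    exact e
  have hPs : Ps.ncard = 15 := by
    rw [show Ps = (AA : Set (Equiv.Perm W)) \ {1} from rfl,
      Set.ncard_sdiff_singleton_of_mem (one_mem AA), show (AA : Set (Equiv.Perm W)).ncard = 16 from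
        (Nat.card_coe_set_eq _).symm.trans card_AA]
  have hE : E.ncard = 480 := by
    rw [Set.ncard_image_of_injOn (fun q hq q' hq' e =>
      hFinj q q' hq.1 (hSm _ hq.2) hq'.1 (hSm _ hq'.2) e), Set.ncard_prod, hPs, ncard_fibre D hz,
      ncard_inRv]
  have hM4 : M4.ncard = 1440 := by
    rw [Set.ncard_image_of_injOn (fun q hq q' hq' e =>
      hFinj q q' hq.1 (hLa _ hq.2) hq'.1 (hLa _ hq'.2) e), Set.ncard_prod, hPs, ncard_fibre D hz,
      ncard_not_inRv]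
  have hlab0 : lab (0 : W) = 0 := (lab_cases 0).1.2 rfl
  -- relations
  have hRM : ∀ x ∈ M4, ∀ y ∈ M4, Rel D x y := by
    rintro _ ⟨q, hq, rfl⟩ _ ⟨q', hq', rfl⟩
    have h := B.rel_moving hz (hLa _ hq.2) hq.2.2.2 (hLa _ hq'.2) hq'.2.2.2
    exact (Rel.symm ⟨gP q.1, hgP _ hq.1, rfl⟩).trans (h.trans ⟨gP q'.1, hgP _ hq'.1, rfl⟩)
  have hRE : ∀ x ∈ E, Rel D B.b0 x ∨ Rel D (B.b0 * zc z) x := by
    rintro _ ⟨q, hq, rfl⟩
    have hg : Rel D (B.b0 * q.2) (F q) := ⟨gP q.1, hgP _ hq.1, rfl⟩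
    rcases B.rel_small hz (hSm _ hq.2) hq.2.2 with h | h
    · exact Or.inl (h.trans hg)
    · exact Or.inr (h.trans hg)
  have hEz : ∀ x ∈ E, x * zc z ∈ E := by
    rintro _ ⟨q, hq, rfl⟩
    refine ⟨(q.1, q.2 * zc z), ⟨hq.1, mul_mem hq.2.1 D.zc_mem, ?_⟩, ?_⟩
    · show inRv (D.Φ (q.2 * zc z))
      rw [phi_mul_zc D hq.2.1]; exact hq.2.2
    · show gP q.1 * (B.b0 * (q.2 * zc z)) * (gP q.1)⁻¹ = _
      rw [← mul_assoc B.b0, conj_mul_zc]
  -- halves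
  obtain ⟨P2, P3, h23, hdis, hc2, hc3, hr2, hr3⟩ :
      ∃ P2 P3 : Set (Subgroup.centralizer ({z} : Set G)), P2 ∪ P3 = E ∧ Disjoint P2 P3 ∧
        P2.ncard = 240 ∧ P3.ncard = 240 ∧ (∀ x ∈ P2, ∀ y ∈ P2, Rel D x y) ∧
        (∀ x ∈ P3, ∀ y ∈ P3, Rel D x y) := by
    by_cases hm : Rel D B.b0 (B.b0 * zc z)
    · have hall : ∀ x ∈ E, Rel D B.b0 x := fun x hx => (hRE x hx).elim id fun h => hm.trans h
      obtain ⟨P2, hP2, hc⟩ := Set.exists_subset_card_eq (s := E) (n := 240) (by omega)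
      refine ⟨P2, E \ P2, Set.union_sdiff_cancel hP2, Set.disjoint_sdiff_right, hc, ?_,
        fun x hx y hy => (hall x (hP2 hx)).symm.trans (hall y (hP2 hy)),
        fun x hx y hy => (hall x hx.1).symm.trans (hall y hy.1)⟩
      rw [Set.ncard_sdiff hP2 (Set.toFinite _), hE, hc]
    · set O0 := {x ∈ E | Rel D B.b0 x} with hO0
      set O1 := {x ∈ E | Rel D (B.b0 * zc z) x} with hO1
      have hu : O0 ∪ O1 = E := by
        ext x
        exact ⟨fun h => h.elim And.left And.left, fun h => (hRE x h).imp (⟨h, ·⟩) (⟨h, ·⟩)⟩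
      have hd : Disjoint O0 O1 :=
        Set.disjoint_left.2 fun x h0 h1 => hm (h0.2.trans h1.2.symm)
      have hz2 := zc_sq (z := z) hz
      have himg : (fun x => x * zc z) '' O0 = O1 := by
        ext x
        constructor
        · rintro ⟨x, ⟨hx, g, hg, e⟩, rfl⟩
          exact ⟨hEz x hx, g, hg, by rw [conj_mul_zc, e]⟩
        · rintro ⟨hx, g, hg, e⟩
          refine ⟨x * zc z, ⟨hEz x hx, g, hg, ?_⟩, by simp [mul_assoc, hz2]⟩
          rw [← e, ← conj_mul_zc, mul_assoc B.b0, hz2, mul_one]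
      have heq : O1.ncard = O0.ncard := by
        rw [← himg, Set.ncard_image_of_injective _ (mul_left_injective _)]
      have hsum := Set.ncard_union_eq hd
      rw [hu, hE] at hsum
      exact ⟨O0, O1, hu, hd, by omega, by omega, fun x hx y hy => hx.2.symm.trans hy.2,
        fun x hx y hy => hx.2.symm.trans hy.2⟩
  have hRI : ∀ k, (k = 2 ∨ k = 3) → ∀ x ∈ I k, ∀ y ∈ I k, Rel D x y := by
    intro k hk x hx y hy
    obtain ⟨h, hh, e⟩ := exists_move_U D hk hx.2.1 hx.2.2 hy.2.1 hy.2.2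
    exact rel_of_phi D hh hx.1 hy.1 (fun h0 => by
      have := hy.2.2; rw [h0, hlab0] at this; omega) e
  let S : Fin 5 → Set (Subgroup.centralizer ({z} : Set G)) := ![I 3, I 2, P2, P3, M4]
  have hE2 : ∀ x ∈ P2, x ∈ E := fun x hx => h23 ▸ Or.inl hx
  have hE3 : ∀ x ∈ P3, x ∈ E := fun x hx => h23 ▸ Or.inr hx
  have hout : ∀ x, x ∈ E ∨ x ∈ M4 → x ∈ CC D ∧ D.ρ x ≠ 1 := by
    rintro _ (⟨q, hq, rfl⟩ | ⟨q, hq, rfl⟩)
    · obtain ⟨h1, h2⟩ := hFρ q hq.1 (hSm _ hq.2)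
      exact ⟨h1, h2.symm ▸ hq.1.2⟩
    · obtain ⟨h1, h2⟩ := hFρ q hq.1 (hLa _ hq.2)
      exact ⟨h1, h2.symm ▸ hq.1.2⟩
  have hin : ∀ k x, x ∈ I k → x ∈ CC D ∧ D.ρ x = 1 := fun k x hx =>
    ⟨Wt_le_CC D ⟨hx.1, hx.2.1⟩, rho_Q D hx.1⟩
  have hS : ∀ i x, x ∈ S i → x ∈ CC D ∧ x ≠ 1 ∧ x ≠ zc z := by
    intro i x hx
    fin_cases i
    · refine ⟨(hin 3 x hx).1, ?_, ?_⟩ <;> intro e <;> subst e <;> have h := hx.2.2
      · rw [phi_one D, hlab0] at h; omega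
      · rw [phi_zc D, hlab0] at h; omega
    · refine ⟨(hin 2 x hx).1, ?_, ?_⟩ <;> intro e <;> subst e <;> have h := hx.2.2
      · rw [phi_one D, hlab0] at h; omega
      · rw [phi_zc D, hlab0] at h; omega
    all_goals
      have h : x ∈ CC D ∧ D.ρ x ≠ 1 := by
        first
          | exact hout x (Or.inl (hE2 x hx))
          | exact hout x (Or.inl (hE3 x hx))
          | exact hout x (Or.inr hx)
      refine ⟨h.1, fun e => h.2 (e ▸ map_one D.ρ), fun e => h.2 (e ▸ rho_Q D D.zc_mem)⟩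
  have hR : ∀ i, ∀ x ∈ S i, ∀ y ∈ S i, Rel D x y := by
    intro i
    fin_cases i
    exacts [hRI 3 (Or.inr rfl), hRI 2 (Or.inl rfl), hr2, hr3, hRM]
  have hdisj : ∀ i j x, x ∈ S i → x ∈ S j → i = j := by
    have hem : ∀ x, x ∈ E → x ∈ M4 → False := by
      rintro _ ⟨q, hq, rfl⟩ ⟨q', hq', e⟩
      have := hFinj q' q hq'.1 (hLa _ hq'.2) hq.1 (hSm _ hq.2) e
      exact hq'.2.2.2 (this ▸ hq.2.2)
    have hio : ∀ k x, x ∈ I k → x ∈ E ∨ x ∈ M4 → False := fun k x h h' => (hout x h').2 (hin k x h).2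
    have hii : ∀ x, x ∈ I 3 → x ∈ I 2 → False := fun x h h' => by
      have := h.2.2.symm.trans h'.2.2; omega
    intro i j x hi hj
    fin_cases i <;> fin_cases j <;> first
      | rfl
      | exact (hii x hi hj).elim
      | exact (hii x hj hi).elim
      | exact (Set.disjoint_left.1 hdis hi hj).elim
      | exact (Set.disjoint_left.1 hdis hj hi).elim
      | exact (hem x (hE2 x hi) hj).elim
      | exact (hem x (hE2 x hj) hi).elim
      | exact (hem x (hE3 x hi) hj).elim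
      | exact (hem x (hE3 x hj) hi).elim
      | exact (hio _ x hi (Or.inl (hE2 x hj))).elim
      | exact (hio _ x hj (Or.inl (hE2 x hi))).elim
      | exact (hio _ x hi (Or.inl (hE3 x hj))).elim
      | exact (hio _ x hj (Or.inl (hE3 x hi))).elim
      | exact (hio _ x hi (Or.inr hj)).elim
      | exact (hio _ x hj (Or.inr hi)).elim
  have hcov : ∀ x ∈ CC D, x ≠ 1 → x ≠ zc z → ∃ i, x ∈ S i := by
    intro x hx h1 hzx
    by_cases hρ : D.ρ x = 1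
    · have hw : x ∈ Wt D := (CC_inf_Q D).le ⟨hx, mem_Q_of_rho D hρ⟩
      have h0 : D.Φ x ≠ 0 := fun e => by
        rcases (D.eq_zero x hw.1).1 e with h | h
        · exact h1 (Subtype.ext h)
        · exact hzx (Subtype.ext h)
      rcases U0.U_cases _ hw.2 with e | e | e
      · exact absurd e h0
      · obtain ⟨p, hp, hpw⟩ := List.mem_map.1 e
        have h2 := (U0.tbl2_ok p hp).2.2.2.1
        rw [hpw, dec_code] at h2
        exact ⟨1, hw.1, hw.2, h2⟩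
      · obtain ⟨p, hp, hpw⟩ := List.mem_map.1 e
        have h2 := (U0.tbl3_ok p hp).2.2.2.1
        rw [hpw, dec_code] at h2
        exact ⟨0, hw.1, hw.2, h2⟩
    · have hp : D.ρ x ∈ Ps := ⟨((mem_CC D).1 hx).1, hρ⟩
      set g := gP (D.ρ x) with hg
      have hxg : g⁻¹ * x * g ∈ CC D := by
        have := Lg_CC D (inv_mem (hgP _ hp)) hx
        rwa [inv_inv] at this
      have hw : B.b0⁻¹ * (g⁻¹ * x * g) ∈ Wt D := Wt_of_rho B.hb0 hxg (by
        rw [map_mul, map_mul, map_inv, B.hρ]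
        have := hgPe _ hp
        rw [← hg] at this
        conv_rhs => rw [← this]
        group)
      have hxe : F (D.ρ x, B.b0⁻¹ * (g⁻¹ * x * g)) = x := by
        simp only [F, ← hg]; group
      by_cases hr : inRv (D.Φ (B.b0⁻¹ * (g⁻¹ * x * g)))
      · have hxE : x ∈ E := ⟨(D.ρ x, B.b0⁻¹ * (g⁻¹ * x * g)), ⟨hp, hw.1, hr⟩, hxe⟩
        rw [← h23] at hxE
        rcases hxE with h | h
        exacts [⟨2, h⟩, ⟨3, h⟩]
      · exact ⟨4, ⟨(D.ρ x, B.b0⁻¹ * (g⁻¹ * x * g)), ⟨hp, hw.1, hw.2, hr⟩, hxe⟩⟩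
  refine ⟨
    { P := fun i => Subtype.val '' S i
      sub := ?_
      cover := ?_
      disj := ?_
      card := ?_
      orbit := ?_
      isZ := ?_
      notZ := ?_ }⟩
  · rintro i _ ⟨x, hx, rfl⟩
    obtain ⟨h1, h2, h3⟩ := hS i x hx
    exact ⟨(mem_AG D).2 h1, fun e => h2 (Subtype.ext e), fun e => h3 (Subtype.ext e)⟩
  · rintro _ ⟨x, hx, rfl⟩ h1 h2
    obtain ⟨i, hi⟩ := hcov x hx (fun e => h1 (congrArg Subtype.val e)) (fun e => h2 (congrArg Subtype.val e))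
    exact ⟨i, x, hi, rfl⟩
  · rintro i j _ ⟨x, hx, rfl⟩ ⟨x', hx', e⟩
    rw [Subtype.val_injective e] at hx'
    exact hdisj i j x hx hx'
  · intro i
    rw [Set.ncard_image_of_injective _ Subtype.val_injective]
    fin_cases i
    · show (I 3).ncard = 90
      rw [ncard_fibre D hz, ncard_U_lab (Or.inr rfl)]; rfl
    · show (I 2).ncard = 36
      rw [ncard_fibre D hz, ncard_U_lab (Or.inl rfl)]; rfl
    exacts [hc2, hc3, hM4]
  · rintro i _ ⟨x, hx, rfl⟩ _ ⟨y, hy, rfl⟩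
    exact rel_G D (hR i x hx y hy)
  · rintro _ ⟨x, hx, rfl⟩
    exact (isConj_iff_lab hF D hx.1 fun e => (hS 0 x hx).2.2 (Subtype.ext e)).2 hx.2.2
  · rintro _ ⟨x, hx, rfl⟩ hc
    have h := (isConj_iff_lab hF D hx.1 fun e => (hS 1 x hx).2.2 (Subtype.ext e)).1 hc
    have := hx.2.2
    omega

end FiLocal
end H33
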