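import Cfsg.Agent.H59.Fischer.Final
import Cfsg.Agent.H33.FiLocal.PartsModel

/-!
The count of the second class in a Thompson subgroup.
-/

set_option autoImplicit false

namespace H33.FiLocal

universe u

variable {G : Type u} [Group G] [Finite G]

theorem count_thompson {z : G} {Q : Subgroup (Subgroup.centralizer ({z} : Set G))} [Q.Normal]
    (hF : Cfsg.IsOfLargeFischerTypeAt z Q) (T : Sylow 2 G) (A : Subgroup G)
    (hA : A = Cfsg.thompsonSubgroupOf 2 (T : Subgroup G)) :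
    {a : G | a ∈ A ∧ a ≠ 1 ∧ ¬ IsConj z a}.ncard = 276 := by
  obtain ⟨D⟩ := H16.Fi24.nonempty_model hF
  obtain ⟨P⟩ := nonempty_parts hF D
  obtain ⟨g, hg⟩ := H59.Fi24.thompson_conj hF D T
  obtain ⟨-, h276, -, -⟩ := H59.Fi24.counts_AG hF D P
  rw [← h276]
  refine Set.ncard_congr (fun a _ => g * a * g⁻¹) ?_ ?_ ?_
  · rintro a ⟨ha, ha1, hna⟩
    refine ⟨?_, fun h => ha1 (by simpa using h), fun h => hna ?_⟩
    · rw [← hg, ← hA]; exact ⟨a, ha, rfl⟩
    · exact h.trans (isConj_iff.2 ⟨g⁻¹, by group⟩)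
  · intro a b _ _ h
    simpa using h
  · rintro b ⟨hb, hb1, hnb⟩
    rw [← hg, ← hA] at hb
    obtain ⟨a, ha, rfl⟩ := hb
    refine ⟨a, ⟨ha, fun h => hb1 (by simp [h]), fun h => hnb ?_⟩, rfl⟩
    exact h.trans (isConj_iff.2 ⟨g, rfl⟩)

end H33.FiLocal
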