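import Cfsg.Agent.H59.Fischer.Local

/-!
Certificates for the action of the normalizer of the first group of order 16 on its fixed space and
on the classes attached to one of its involutions.
-/

set_option autoImplicit false
set_option maxRecDepth 100000

namespace H33
namespace FiLocal
namespace U0

open H16.Fi24 H59.Fi24

/-- Words of six normalising elements. -/
def sW : List (List (Fin 10)) := [[7, 8, 9, 9],
  [5, 6, 9, 9],
  [4, 9],
  [4, 4, 9, 9],
  [3, 4, 8, 9],
  [1, 4, 6, 9]]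

/-- Their codes. -/
def KS : List ℕ := [3645779400906958129905, 3732269707959809836530, 1474706707737805658964, 1376732358008690253396, 2730568579629562703934, 2661376316401337270514]

theorem sW_ok : ∀ i < 6, kw KT (sW.getD i []) = KS.getD i 0 := by decide +kernel

theorem sW_norm : ∀ i < 6, ∀ a ∈ LA, ∃ b ∈ LA, kmul (KS.getD i 0) a = kmul b (KS.getD i 0) := by
  decide +kernel

/-- Applying a product of the elements to a code. -/
def appL : List ℕ → ℕ → ℕ
  | [], v => v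
  | k :: l, v => appN (KS.getD k 0) (appL l v)

/-- Paths to the vectors of the first class. -/
def tbl2 : List (ℕ × List ℕ) := [(5, []), (10, [1]), (1530, [5]), (15, [1, 1]), (2655, [5, 1]), (3930, [0, 5]), (4095, [1, 5]), (1455, [2, 5]), (80, [4, 5]), (4005, [5, 1, 1]), (1365, [1, 5, 1]), (2805, [2, 5, 1]), (160, [4, 5, 1]), (2730, [0, 0, 5]), (3840, [2, 1, 5]), (240, [4, 5, 1, 1]), (1280, [2, 1, 5, 1]), (2560, [2, 0, 0, 5])]

/-- Paths to the vectors of the second class. -/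
def tbl3 : List (ℕ × List ℕ) := [(85, []), (165, [0]), (90, [1]), (1450, [4]), (245, [0, 0]), (170, [1, 0]), (2800, [4, 0]), (1370, [5, 0]), (95, [1, 1]), (1445, [4, 1]), (2575, [5, 1]), (4090, [0, 4]), (4015, [1, 4]), (1535, [2, 4]), (250, [1, 0, 0]), (3935, [4, 0, 0]), (1290, [5, 0, 0]), (175, [1, 1, 0]), (2815, [4, 1, 0]), (1360, [0, 4, 0]), (1520, [1, 4, 0]), (2650, [2, 4, 0]), (4010, [0, 5, 0]), (1295, [2, 5, 0]), (2725, [4, 5, 0]), (1440, [4, 1, 1]), (4085, [5, 1, 1]), (1285, [1, 5, 1]), (3845, [2, 0, 4]), (3920, [2, 1, 4]), (255, [1, 1, 0, 0]), (2735, [5, 1, 0, 0]), (2645, [1, 4, 0, 0]), (4000, [2, 4, 0, 0]), (1525, [5, 4, 0, 0]), (3850, [0, 5, 0, 0]), (3855, [1, 5, 0, 0]), (1375, [2, 5, 0, 0]), (2810, [4, 1, 1, 0]), (4080, [1, 1, 4, 0]), (3925, [2, 0, 5, 0]), (2565, [0, 2, 0, 4]), (2570, [1, 2, 0, 4]), (2720, [0, 2, 1, 4]), (2640, [1, 2, 1, 4])]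

theorem tbl2_ok : ∀ p ∈ tbl2, appL p.2 5 = p.1 ∧ (∀ k ∈ p.2, k < 6) ∧
    inU (dec p.1) ∧ lab (dec p.1) = 2 ∧ p.1 < 4096 := by decide +kernel

theorem tbl3_ok : ∀ p ∈ tbl3, appL p.2 85 = p.1 ∧ (∀ k ∈ p.2, k < 6) ∧
    inU (dec p.1) ∧ lab (dec p.1) = 3 ∧ p.1 < 4096 := by decide +kernel

theorem tbl_nodup : (tbl2.map Prod.fst).Nodup ∧ tbl2.length = 18 ∧ (tbl3.map Prod.fst).Nodup ∧
    tbl3.length = 45 := by decide +kernel

theorem U_cases : ∀ v : W, inU v →
    v = 0 ∨ code v ∈ tbl2.map Prod.fst ∨ code v ∈ tbl3.map Prod.fst :=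
  forall_W (by decide +kernel)

/-- The code of the first involution. -/
def a1K : ℕ := 295436136656089923585

theorem a1K_eq : LA.getD 1 0 = a1K := rfl

/-- The codes of its commutator space. -/
def RC : List ℕ := [0, 80, 160, 240, 1280, 1360, 1440, 1520, 2560, 2640, 2720, 2800, 3840, 3920, 4000, 4080]

/-- Preimages. -/
def RP : List ℕ := [0, 16, 32, 48, 256, 272, 288, 304, 512, 528, 544, 560, 768, 784, 800, 816]

theorem RC_nodup : RC.Nodup ∧ RC.length = 16 ∧ RP.length = 16 := by decide +kernel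

theorem RC_comm : ∀ v : Fin 4096, appN a1K v.val ^^^ v.val ∈ RC := by decide +kernel

theorem RC_pre : ∀ i < 16, RP.getD i 0 < 4096 ∧
    appN a1K (RP.getD i 0) ^^^ RP.getD i 0 = RC.getD i 0 := by decide +kernel

/-- Two vectors fixed by the involution. -/
def c1 : ℕ := 1

/-- Two vectors fixed by the involution. -/
def c2 : ℕ := 2

/-- Dual vectors in the space. -/
def u1 : ℕ := 10

/-- Dual vectors in the space. -/
def u2 : ℕ := 5

theorem dual : appN a1K c1 = c1 ∧ appN a1K c2 = c2 ∧ inU (dec u1) ∧ inU (dec u2) ∧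
    Bf (dec c1) (dec u1) = 1 ∧ Bf (dec c1) (dec u2) = 0 ∧
    Bf (dec c2) (dec u1) = 0 ∧ Bf (dec c2) (dec u2) = 1 := by decide +kernel

theorem fix_C : ∀ v : W, appN a1K (code v) = code v → Bf v (dec u1) = 0 → Bf v (dec u2) = 0 → inU v :=
  forall_W (by decide +kernel)

theorem R_dual : ∀ v : W, inU v → Bf (dec c1) v = 0 → Bf (dec c2) v = 0 → code v ∈ RC :=
  forall_W (by decide +kernel)

theorem R_perp : ∀ r ∈ RC, inU (dec r) ∧ Bf (dec c1) (dec r) = 0 ∧ Bf (dec c2) (dec r) = 0 := by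
  decide +kernel

/-- A word of an element permuting the classes of the involution. -/
def perW : List ℕ := [1, 1]

/-- Its code. -/
def perK : ℕ := 2643862355653768693155

theorem per_ok : (perW.foldr (fun k K => kmul (KS.getD k 0) K) one = perK) ∧ (∀ k ∈ perW, k < 6) ∧
    kmul perK a1K = kmul a1K perK ∧
    appN perK u1 ^^^ u2 ∈ RC ∧ appN perK u2 ^^^ (u1 ^^^ u2) ∈ RC := by decide +kernel

end U0
end FiLocal
end H33
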