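import Mathlib
import Cfsg.Agent.H90.PairIndex

/-!
A point with an orbit of length 276 under a normalizer with quotient `M24` has the pair stabilizer
as its centralizer modulo the kernel.
-/

set_option autoImplicit false

namespace H33
namespace FiLocal

open Cfsg
open scoped Pointwise

/-- The two base points as a finset. -/
def basePair : Finset GolayPt := {none, some 0}

theorem stab_pair_equiv {s : Finset GolayPt} (hs : s.card = 2) :
    Nonempty (↥(MulAction.stabilizer M24 s) ≃*
      ↥(M24 ⊓ MulAction.stabilizer (Equiv.Perm GolayPt) ({none, some 0} : Set GolayPt))) := by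
  classical
  obtain ⟨a, b, hab, rfl⟩ := Finset.card_eq_two.mp hs
  obtain ⟨σ, hσ, e1, e2⟩ := H90.exists_move2 hab (show (none : GolayPt) ≠ some 0 by simp)
  set s : Finset GolayPt := {a, b} with hsdef
  have hmove : (⟨σ, hσ⟩ : ↥M24) • s = basePair := by
    show Finset.image σ {a, b} = _
    rw [Finset.image_insert, Finset.image_singleton, e1, e2]
    rfl
  have hco : (basePair : Set GolayPt) = ({none, some 0} : Set GolayPt) := by simp [basePair]
  have hmem : ∀ g : ↥M24, g ∈ MulAction.stabilizer M24 basePair ↔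
      (g : Equiv.Perm GolayPt) ∈
        MulAction.stabilizer (Equiv.Perm GolayPt) ({none, some 0} : Set GolayPt) := by
    intro g
    rw [MulAction.mem_stabilizer_iff, MulAction.mem_stabilizer_iff, ← hco, ← Finset.coe_smul_finset,
      Finset.coe_inj]
    rfl
  have heq : MulAction.stabilizer M24 basePair =
      (MulAction.stabilizer M24 s).map (MulAut.conj (⟨σ, hσ⟩ : ↥M24)).toMonoidHom := by
    rw [← hmove, MulAction.stabilizer_smul_eq_stabilizer_map_conj]
  refine ⟨((MulAut.conj (⟨σ, hσ⟩ : ↥M24)).subgroupMap _).trans ((MulEquiv.subgroupCongr heq.symm).trans ?_)⟩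
  refine
    { toFun := fun g => ⟨g.1.1, g.1.2, (hmem g.1).1 g.2⟩
      invFun := fun g => ⟨⟨g.1, g.2.1⟩, (hmem ⟨g.1, g.2.1⟩).2 g.2.2⟩
      left_inv := fun _ => rfl
      right_inv := fun _ => rfl
      map_mul' := fun _ _ => rfl }

theorem pair_stab {G : Type*} [Group G] [Finite G] {A M : Subgroup G} [(A.subgroupOf M).Normal]
    (hc : ∀ a ∈ A, ∀ b ∈ A, a * b = b * a) (hAM : A ≤ M) (f : ↥M ⧸ A.subgroupOf M ≃* ↥M24) {t : G}
    (htA : t ∈ A) (horb : ((fun m => m * t * m⁻¹) '' (M : Set G)).ncard = 276) :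
    ∃ _ : (A.subgroupOf (M ⊓ Subgroup.centralizer ({t} : Set G))).Normal,
      Nonempty (↥(M ⊓ Subgroup.centralizer ({t} : Set G)) ⧸
          A.subgroupOf (M ⊓ Subgroup.centralizer ({t} : Set G)) ≃*
        ↥(M24 ⊓ MulAction.stabilizer (Equiv.Perm GolayPt) ({none, some 0} : Set GolayPt))) := by
  set C := M ⊓ Subgroup.centralizer ({t} : Set G) with hCdef
  have hmemC : ∀ g, g ∈ C ↔ g ∈ M ∧ g * t = t * g := fun g => by
    rw [hCdef, Subgroup.mem_inf, Subgroup.mem_centralizer_singleton_iff]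
  have hAC : A ≤ C := fun a ha => (hmemC a).2 ⟨hAM ha, hc a ha t htA⟩
  -- the index
  have hidx : (C.subgroupOf M).index = 276 := by
    rw [← horb, ← Nat.card_coe_set_eq]
    refine Nat.card_congr (Equiv.ofBijective
      (Quotient.lift (fun m : ↥M => (⟨(m : G) * t * (m : G)⁻¹, ⟨m, m.2, rfl⟩⟩ :
        ↥((fun m => m * t * m⁻¹) '' (M : Set G)))) ?_) ⟨?_, ?_⟩)
    · intro x y hxy
      have h : (x⁻¹ * y : ↥M) ∈ C.subgroupOf M := QuotientGroup.leftRel_apply.1 hxy
      have h' := ((hmemC _).1 (Subgroup.mem_subgroupOf.1 h)).2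
      simp only [Subgroup.coe_mul, Subgroup.coe_inv] at h'
      refine Subtype.ext ?_
      show (x : G) * t * (x : G)⁻¹ = (y : G) * t * (y : G)⁻¹
      calc (x : G) * t * (x : G)⁻¹ = (x : G) * (t * ((x : G)⁻¹ * y)) * (y : G)⁻¹ := by group
        _ = (x : G) * ((x : G)⁻¹ * y * t) * (y : G)⁻¹ := by rw [h']
        _ = _ := by group
    · intro p q
      refine Quotient.inductionOn₂ p q fun x y h => Quotient.sound ?_
      have h' : (x : G) * t * (x : G)⁻¹ = (y : G) * t * (y : G)⁻¹ := congrArg Subtype.val h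
      show QuotientGroup.leftRel (C.subgroupOf M) x y
      rw [QuotientGroup.leftRel_apply, Subgroup.mem_subgroupOf, hmemC]
      refine ⟨SetLike.coe_mem _, ?_⟩
      simp only [Subgroup.coe_mul, Subgroup.coe_inv]
      calc (x : G)⁻¹ * y * t = (x : G)⁻¹ * ((y : G) * t * (y : G)⁻¹) * y := by group
        _ = (x : G)⁻¹ * ((x : G) * t * (x : G)⁻¹) * y := by rw [h']
        _ = _ := by group
    · rintro ⟨_, m, hm, rfl⟩
      exact ⟨Quotient.mk _ ⟨m, hm⟩, rfl⟩
  let π : ↥M →* ↥M24 := f.toMonoidHom.comp (QuotientGroup.mk' (A.subgroupOf M))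
  have hπs : Function.Surjective π := f.surjective.comp (QuotientGroup.mk'_surjective _)
  have hπk : π.ker = A.subgroupOf M := by
    ext x
    simp [π, MonoidHom.mem_ker, QuotientGroup.eq_one_iff]
  let φ : ↥C →* ↥M24 := π.comp (Subgroup.inclusion (inf_le_left : C ≤ M))
  have hker : φ.ker = A.subgroupOf C := by
    ext x
    rw [MonoidHom.mem_ker, Subgroup.mem_subgroupOf]
    show π (Subgroup.inclusion _ x) = 1 ↔ _
    rw [← MonoidHom.mem_ker, hπk, Subgroup.mem_subgroupOf]
    rfl
  have hrange : φ.range = (C.subgroupOf M).map π := by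
    ext y
    constructor
    · rintro ⟨x, rfl⟩
      exact ⟨Subgroup.inclusion inf_le_left x, x.2, rfl⟩
    · rintro ⟨x, hx, rfl⟩
      exact ⟨⟨x, hx⟩, rfl⟩
  have hi : φ.range.index = 276 := by
    rw [hrange, Subgroup.index_map, hπk, MonoidHom.range_eq_top.mpr hπs, Subgroup.index_top,
      mul_one, sup_eq_left.mpr fun x hx => hAC hx, hidx]
  obtain ⟨s, hs, hst⟩ := H90.index_276 hi
  obtain ⟨e⟩ := stab_pair_equiv hs
  haveI hn : (A.subgroupOf C).Normal := hker ▸ φ.normal_ker
  exact ⟨hn, ⟨((QuotientGroup.quotientMulEquivOfEq hker.symm).trans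
    (QuotientGroup.quotientKerEquivRange φ)).trans ((MulEquiv.subgroupCongr hst).trans e)⟩⟩

end FiLocal
end H33
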