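import Mathlib
import Cfsg.Prelude.Def_MonsterType
import Cfsg.Prelude.Def_Transfer
import Cfsg.Agent.H69.Setting
import Cfsg.Agent.H68.ExtraComm

/-!
A unique largest elementary abelian subgroup in a Sylow 2-subgroup of the centraliser of a
central involution: it is the Thompson subgroup, weakly closed, and its normalizer controls its
fusion.
-/

set_option autoImplicit false

namespace H33
namespace FiLocal

open Cfsg

universe u

variable {G : Type u} [Group G]

/-- `A` is the only elementary abelian subgroup of `P` of largest order, and that order is `n`. -/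
def UniqueMax (n : ℕ) (P A : Subgroup G) : Prop :=
  A ≤ P ∧ IsElementaryAbelian 2 A ∧ Nat.card A = n ∧
    ∀ B : Subgroup G, B ≤ P → IsElementaryAbelian 2 B → Nat.card B ≤ n ∧ (Nat.card B = n → B = A)

theorem ea_map {H : Type*} [Group H] (f : G →* H) {A : Subgroup G} (h : IsElementaryAbelian 2 A) :
    IsElementaryAbelian 2 (A.map f) := by
  refine ⟨⟨⟨?_⟩⟩, ?_⟩
  · rintro ⟨_, a, ha, rfl⟩ ⟨_, b, hb, rfl⟩
    refine Subtype.ext ?_
    show f a * f b = f b * f a
    rw [← _root_.map_mul, ← _root_.map_mul]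
    exact congrArg f (congrArg Subtype.val (h.1.is_comm.comm ⟨a, ha⟩ ⟨b, hb⟩))
  · rintro _ ⟨a, ha, rfl⟩
    rw [← map_pow, h.2 a ha, map_one]

theorem ea_comm {A : Subgroup G} (h : IsElementaryAbelian 2 A) {a b : G} (ha : a ∈ A) (hb : b ∈ A) :
    a * b = b * a :=
  congrArg Subtype.val (h.1.is_comm.comm ⟨a, ha⟩ ⟨b, hb⟩)

theorem ea_subgroupOf {A P : Subgroup G} (h : IsElementaryAbelian 2 A) :
    IsElementaryAbelian 2 (A.subgroupOf P) :=
  ⟨⟨⟨fun x y => Subtype.ext (Subtype.ext (ea_comm h x.2 y.2))⟩⟩,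
    fun a ha => Subtype.ext (by simpa using h.2 _ ha)⟩

theorem ea_conj (g : G) {A : Subgroup G} (h : IsElementaryAbelian 2 A) :
    IsElementaryAbelian 2 (A.map (MulAut.conj g).toMonoidHom) := ea_map _ h

theorem card_conj (g : G) (A : Subgroup G) :
    Nat.card ↥(A.map (MulAut.conj g).toMonoidHom) = Nat.card A :=
  Subgroup.card_map_of_injective (MulAut.conj g).injective

theorem mem_conj {g : G} {A : Subgroup G} {x : G} :
    x ∈ A.map (MulAut.conj g).toMonoidHom ↔ g⁻¹ * x * g ∈ A := by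
  constructor
  · rintro ⟨a, ha, rfl⟩
    simpa [mul_assoc] using ha
  · intro h
    exact ⟨_, h, by simp [mul_assoc]⟩

theorem UniqueMax.conj {n : ℕ} {P A : Subgroup G} (h : UniqueMax n P A) (g : G) :
    UniqueMax n (P.map (MulAut.conj g).toMonoidHom) (A.map (MulAut.conj g).toMonoidHom) := by
  obtain ⟨hAP, hA, hc, hB⟩ := h
  refine ⟨Subgroup.map_mono hAP, ea_conj g hA, by rw [card_conj, hc], fun B hBP hBe => ?_⟩
  have hle : B.map (MulAut.conj g⁻¹).toMonoidHom ≤ P := by
    intro x hx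
    rw [mem_conj, inv_inv] at hx
    have := mem_conj.1 (hBP hx)
    simpa [mul_assoc] using this
  obtain ⟨h1, h2⟩ := hB _ hle (ea_conj g⁻¹ hBe)
  rw [card_conj] at h1 h2
  refine ⟨h1, fun e => ?_⟩
  ext x
  have := SetLike.ext_iff.1 (h2 e) (g⁻¹ * x * g)
  rw [mem_conj, inv_inv] at this
  rw [mem_conj, ← this]
  simp [mul_assoc]

variable [Finite G]

theorem thompson_eq {n : ℕ} {P A : Subgroup G} (h : UniqueMax n P A) :
    thompsonSubgroupOf 2 P = A := by
  obtain ⟨hAP, hA, hc, hB⟩ := h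
  have hcard : Nat.card ↥(A.subgroupOf P) = n := by
    rw [Nat.card_congr (Subgroup.subgroupOfEquivOfLe hAP).toEquiv, hc]
  have hset : maxElementaryAbelianSubgroups 2 ↥P = {A.subgroupOf P} := by
    ext B
    constructor
    · rintro ⟨hBe, hmax⟩
      obtain ⟨h1, h2⟩ := hB (B.map P.subtype) (Subgroup.map_subtype_le B) (ea_map _ hBe)
      rw [Subgroup.card_map_of_injective P.subtype_injective] at h1 h2
      have := h2 (le_antisymm h1 (hcard ▸ hmax _ (ea_subgroupOf hA)))
      rw [Set.mem_singleton_iff, ← this]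
      exact (Subgroup.comap_map_eq_self_of_injective P.subtype_injective B).symm
    · rintro rfl
      refine ⟨ea_subgroupOf hA, fun C hC => ?_⟩
      have h1 := (hB (C.map P.subtype) (Subgroup.map_subtype_le C) (ea_map _ hC)).1
      rw [Subgroup.card_map_of_injective P.subtype_injective] at h1
      rwa [hcard]
  rw [thompsonSubgroupOf, thompsonSubgroup, hset, sSup_singleton, Subgroup.map_subgroupOf_eq_of_le hAP]

/-- Every Sylow subgroup has such a subgroup. -/
def AllUnique (n : ℕ) (G : Type u) [Group G] : Prop :=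
  ∀ P : Sylow 2 G, ∃ A : Subgroup G, UniqueMax n (P : Subgroup G) A

theorem allUnique_of_one {n : ℕ} (P : Sylow 2 G) {A : Subgroup G}
    (h : UniqueMax n (P : Subgroup G) A) : AllUnique n G := by
  intro R
  obtain ⟨g, rfl⟩ := MulAction.exists_smul_eq G P R
  exact ⟨A.map (MulAut.conj g).toMonoidHom, h.conj g⟩

/-- Two subgroups of largest order inside a 2-group coincide. -/
theorem eq_of_le {n : ℕ} (hall : AllUnique n G) {R A B : Subgroup G} (hR : IsPGroup 2 R)
    (hAR : A ≤ R) (hBR : B ≤ R) (hA : IsElementaryAbelian 2 A) (hB : IsElementaryAbelian 2 B)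
    (hAn : Nat.card A = n) (hBn : Nat.card B = n) : A = B := by
  obtain ⟨P, hP⟩ := hR.exists_le_sylow
  obtain ⟨A₀, -, -, -, h⟩ := hall P
  rw [(h A (hAR.trans hP) hA).2 hAn, (h B (hBR.trans hP) hB).2 hBn]

theorem normal_in_sylow {n : ℕ} (P : Sylow 2 G) {A : Subgroup G}
    (h : UniqueMax n (P : Subgroup G) A) :
    (P : Subgroup G) ≤ Subgroup.normalizer (A : Set G) := by
  intro g hg
  rw [Subgroup.mem_normalizer_iff_map_conj_eq]
  refine (h.2.2.2 _ ?_ (ea_conj g h.2.1)).2 (by rw [card_conj, h.2.2.1])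
  intro x hx
  have := h.1 (mem_conj.1 hx)
  simpa [mul_assoc] using mul_mem (mul_mem hg this) (inv_mem hg)

/-- The normalizer controls fusion. -/
theorem fusion {n : ℕ} (hall : AllUnique n G) {A : Subgroup G} (hA : IsElementaryAbelian 2 A)
    (hAn : Nat.card A = n) {a g : G} (ha : a ∈ A) (hb : g * a * g⁻¹ ∈ A) :
    ∃ m ∈ Subgroup.normalizer (A : Set G), m * a * m⁻¹ = g * a * g⁻¹ := by
  have := Fact.mk Nat.prime_two
  set b := g * a * g⁻¹ with hbdef
  set C := Subgroup.centralizer ({b} : Set G) with hC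
  have hA1 : A ≤ C := fun x hx => Subgroup.mem_centralizer_singleton_iff.2 (ea_comm hA hx hb)
  set B := A.map (MulAut.conj g).toMonoidHom with hBdef
  have hB1 : B ≤ C := by
    rintro _ ⟨x, hx, rfl⟩
    rw [hC, Subgroup.mem_centralizer_singleton_iff, hbdef]
    show g * x * g⁻¹ * (g * a * g⁻¹) = g * a * g⁻¹ * (g * x * g⁻¹)
    calc g * x * g⁻¹ * (g * a * g⁻¹) = g * (x * a) * g⁻¹ := by group
      _ = g * (a * x) * g⁻¹ := by rw [ea_comm hA hx ha]
      _ = _ := by group
  have hp : ∀ D : Subgroup G, IsElementaryAbelian 2 D → IsPGroup 2 D := fun D hD x =>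
    ⟨1, Subtype.ext (by simpa using hD.2 _ x.2)⟩
  have hpC : ∀ D : Subgroup G, D ≤ C → IsElementaryAbelian 2 D →
      IsPGroup 2 ↥(D.subgroupOf C) := fun D hDC hD =>
    (hp D hD).of_equiv (Subgroup.subgroupOfEquivOfLe hDC).symm
  obtain ⟨R1, hR1⟩ := (hpC A hA1 hA).exists_le_sylow
  obtain ⟨R2, hR2⟩ := (hpC B hB1 (ea_conj g hA)).exists_le_sylow
  obtain ⟨c, hc⟩ := MulAction.exists_smul_eq ↥C R2 R1
  have hR : IsPGroup 2 ↥((R1 : Subgroup ↥C).map C.subtype) := R1.2.map _
  have hAR : A ≤ (R1 : Subgroup ↥C).map C.subtype := fun x hx =>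
    ⟨⟨x, hA1 hx⟩, hR1 (show (⟨x, hA1 hx⟩ : ↥C) ∈ A.subgroupOf C from hx), rfl⟩
  have hBR : A.map (MulAut.conj ((c : G) * g)).toMonoidHom ≤ (R1 : Subgroup ↥C).map C.subtype := by
    rintro _ ⟨x, hx, rfl⟩
    have hgx : (⟨g * x * g⁻¹, hB1 ⟨x, hx, rfl⟩⟩ : ↥C) ∈ (R2 : Subgroup ↥C) :=
      hR2 (show (⟨g * x * g⁻¹, hB1 ⟨x, hx, rfl⟩⟩ : ↥C) ∈ B.subgroupOf C from ⟨x, hx, rfl⟩)
    refine ⟨c * ⟨g * x * g⁻¹, hB1 ⟨x, hx, rfl⟩⟩ * c⁻¹, ?_, ?_⟩
    · rw [← hc, Sylow.coe_subgroup_smul]
      exact Subgroup.smul_mem_pointwise_smul _ (MulAut.conj c) _ hgx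
    · simp [mul_assoc]
  have heq := eq_of_le hall hR hBR hAR (ea_conj _ hA) hA (by rw [card_conj, hAn]) hAn
  refine ⟨(c : G) * g, Subgroup.mem_normalizer_iff_map_conj_eq.2 heq, ?_⟩
  have hcb := Subgroup.mem_centralizer_singleton_iff.1 c.2
  calc (c : G) * g * a * ((c : G) * g)⁻¹ = (c : G) * (g * a * g⁻¹) * (c : G)⁻¹ := by group
    _ = g * a * g⁻¹ := by rw [← hbdef, hcb, mul_inv_cancel_right]

section Setting

variable {z : G} (Q : Subgroup (Subgroup.centralizer ({z} : Set G))) [Q.Normal]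

theorem sylow_of_centralizer (hz : orderOf z = 2)
    (hF : generalizedFittingSubgroup (Subgroup.centralizer ({z} : Set G)) = Q)
    (hQ : IsExtraspecial 2 Q) (T : Sylow 2 ↥(Subgroup.centralizer ({z} : Set G))) :
    ∃ P : Sylow 2 G, (P : Subgroup G) =
      (T : Subgroup ↥(Subgroup.centralizer ({z} : Set G))).map
        (Subgroup.centralizer ({z} : Set G)).subtype := by
  have := Fact.mk Nat.prime_two
  set Q' := Q.map (Subgroup.centralizer ({z} : Set G)).subtype with hQ'
  have hQx : IsExtraspecial 2 ↥Q' :=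
    H68.isExtraspecial_of_equiv (Q.equivMapOfInjective _ (Subgroup.centralizer ({z} : Set G)).subtype_injective) hQ
  obtain ⟨-, hcen, -⟩ := H69.fstar_setting hz (Subgroup.map_subtype_le Q) (by rw [hF]) hQx
  have hQp : IsPGroup 2 ↥Q := hQ.1.1
  obtain ⟨T₀, hT₀⟩ := hQp.exists_le_sylow
  have hQT : Q ≤ (T : Subgroup ↥(Subgroup.centralizer ({z} : Set G))) := by
    obtain ⟨c, rfl⟩ := MulAction.exists_smul_eq ↥(Subgroup.centralizer ({z} : Set G)) T₀ T
    intro q hq
    rw [Sylow.coe_subgroup_smul, Subgroup.mem_pointwise_smul_iff_inv_smul_mem]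
    refine hT₀ ?_
    show (MulAut.conj c)⁻¹ q ∈ Q
    rw [MulAut.inv_apply, MulAut.conj_symm_apply]
    simpa using (inferInstance : Q.Normal).conj_mem q hq c⁻¹
  set T₁ := (T : Subgroup ↥(Subgroup.centralizer ({z} : Set G))).map (Subgroup.centralizer ({z} : Set G)).subtype with hT₁
  obtain ⟨P, hP⟩ := (T.2.map (Subgroup.centralizer ({z} : Set G)).subtype).exists_le_sylow
  refine ⟨P, le_antisymm ?_ hP⟩
  have hzQ : z ∈ Q' := by
    have : z ∈ (Subgroup.center Q').map Q'.subtype := hcen ▸ Subgroup.mem_zpowers z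
    exact Subgroup.map_subtype_le _ this
  have hQP : Q' ≤ (P : Subgroup G) := (Subgroup.map_mono hQT).trans hP
  haveI : Nontrivial ↥(P : Subgroup G) := by
    refine ⟨⟨⟨z, hQP hzQ⟩, 1, fun e => ?_⟩⟩
    have := congrArg Subtype.val e
    simp only [OneMemClass.coe_one] at this
    simp [this] at hz
  haveI := P.2.center_nontrivial
  obtain ⟨w, hw⟩ := exists_ne (1 : Subgroup.center ↥(P : Subgroup G))
  have hwP : ∀ x ∈ (P : Subgroup G), x * (w : G) = (w : G) * x := fun x hx =>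
    congrArg Subtype.val (Subgroup.mem_center_iff.1 w.2 ⟨x, hx⟩)
  have hw1 : (w : G) ≠ 1 := fun e => hw (Subtype.ext (Subtype.ext e))
  have hwC : (w : G) ∈ Subgroup.centralizer ({z} : Set G) := Subgroup.mem_centralizer_singleton_iff.2 (hwP z (hQP hzQ)).symm
  have hwQ : (w : G) ∈ Q' := by
    refine ⟨⟨w, hwC⟩, ?_, rfl⟩
    rw [← hF]
    refine Cfsg.Agent.S1265.result (G := ↥(Subgroup.centralizer ({z} : Set G))) (Subgroup.mem_centralizer_iff.mpr fun q hq => ?_)
    have hq' : q ∈ Q := hF ▸ hq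
    exact Subtype.ext (hwP q (hQP ⟨q, hq', rfl⟩))
  have hwz : (w : G) ∈ (Subgroup.center Q').map Q'.subtype :=
    H93.mem_centerMap.mpr ⟨hwQ, fun q hq => hwP q (hQP hq)⟩
  rw [hcen] at hwz
  have hweq : (w : G) = z := (H93.zpowers_two_cases hz hwz).resolve_left hw1
  have hPC : (P : Subgroup G) ≤ Subgroup.centralizer ({z} : Set G) := fun x hx =>
    Subgroup.mem_centralizer_singleton_iff.2 (hweq ▸ hwP x hx)
  have hle : (T : Subgroup ↥(Subgroup.centralizer ({z} : Set G))) ≤ (P : Subgroup G).subgroupOf (Subgroup.centralizer ({z} : Set G)) := fun x hx => hP ⟨x, hx, rfl⟩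
  have := T.3 (P.2.of_equiv (Subgroup.subgroupOfEquivOfLe hPC).symm) hle
  intro x hx
  exact ⟨⟨x, hPC hx⟩, this ▸ (show (⟨x, hPC hx⟩ : ↥(Subgroup.centralizer ({z} : Set G))) ∈ (P : Subgroup G).subgroupOf (Subgroup.centralizer ({z} : Set G)) from hx), rfl⟩

/-- The data of the local statement, carried to the Sylow subgroups of the whole group. -/
theorem thompson_data {n : ℕ} (hz : orderOf z = 2)
    (hF : generalizedFittingSubgroup (Subgroup.centralizer ({z} : Set G)) = Q)
    (hQ : IsExtraspecial 2 Q)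
    (hloc : ∀ T : Sylow 2 ↥(Subgroup.centralizer ({z} : Set G)),
      ∃ A : Subgroup ↥(T : Subgroup (Subgroup.centralizer ({z} : Set G))),
        maxElementaryAbelianSubgroups 2 ↥(T : Subgroup (Subgroup.centralizer ({z} : Set G))) = {A} ∧
          Nat.card A = n)
    (P : Sylow 2 G) :
    AllUnique n G ∧ UniqueMax n (P : Subgroup G) (thompsonSubgroupOf 2 (P : Subgroup G)) ∧
      ∃ g : G, g * z * g⁻¹ ∈ thompsonSubgroupOf 2 (P : Subgroup G) ∧
        ∀ x ∈ (P : Subgroup G), x * (g * z * g⁻¹) = g * z * g⁻¹ * x := by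
  have := Fact.mk Nat.prime_two
  let T : Sylow 2 ↥(Subgroup.centralizer ({z} : Set G)) := default
  obtain ⟨P₁, hP₁⟩ := sylow_of_centralizer Q hz hF hQ T
  obtain ⟨A₀, hA₀, hA₀n⟩ := hloc T
  have hA₀m : A₀ ∈ maxElementaryAbelianSubgroups 2 ↥(T : Subgroup ↥(Subgroup.centralizer ({z} : Set G))) := by simp [hA₀]
  set ι := (Subgroup.centralizer ({z} : Set G)).subtype.comp (T : Subgroup ↥(Subgroup.centralizer ({z} : Set G))).subtype with hι
  have hinj : Function.Injective ι := (Subgroup.centralizer ({z} : Set G)).subtype_injective.comp (Subgroup.subtype_injective _)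
  have hrange : ι.range = (P₁ : Subgroup G) := by
    rw [hP₁, hι, MonoidHom.range_comp, Subgroup.range_subtype]
  set A₁ := A₀.map ι with hA₁
  have hU : UniqueMax n (P₁ : Subgroup G) A₁ := by
    refine ⟨hrange ▸ Subgroup.map_le_range _ _, ea_map _ hA₀m.1,
      by rw [hA₁, Subgroup.card_map_of_injective hinj, hA₀n], fun B hB hBe => ?_⟩
    have hBr : (B.comap ι).map ι = B := by
      rw [Subgroup.map_comap_eq, inf_eq_right.2 (hrange ▸ hB)]
    have hBe' : IsElementaryAbelian 2 (B.comap ι) :=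
      ⟨⟨⟨fun x y => Subtype.ext (hinj (by
        rw [Subgroup.coe_mul, Subgroup.coe_mul, _root_.map_mul, _root_.map_mul]
        exact ea_comm hBe x.2 y.2))⟩⟩,
        fun a ha => hinj (by rw [map_pow, hBe.2 _ ha, map_one])⟩
    have hle := hA₀m.2 _ hBe'
    rw [← Subgroup.card_map_of_injective hinj (K := B.comap ι), hBr, hA₀n] at hle
    refine ⟨hle, fun e => ?_⟩
    have hmem : B.comap ι ∈ maxElementaryAbelianSubgroups 2 ↥(T : Subgroup ↥(Subgroup.centralizer ({z} : Set G))) := by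
      refine ⟨hBe', fun D hD => ?_⟩
      rw [← Subgroup.card_map_of_injective hinj (K := B.comap ι), hBr, e, ← hA₀n]
      exact hA₀m.2 D hD
    rw [hA₀] at hmem
    rw [← hBr, hmem]
  have hall := allUnique_of_one P₁ hU
  have hzA : z ∈ A₁ := by
    have hA₁C : ∀ a ∈ A₁, a * z = z * a := by
      rintro _ ⟨a, -, rfl⟩
      exact Subgroup.mem_centralizer_singleton_iff.1 ((a : ↥(Subgroup.centralizer ({z} : Set G)))).2
    set B := A₁ ⊔ Subgroup.zpowers z with hBdef
    have hzP : z ∈ (P₁ : Subgroup G) := by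
      have hcz : (⟨z, Subgroup.mem_centralizer_singleton_iff.2 rfl⟩ : ↥(Subgroup.centralizer ({z} : Set G))) ∈ Subgroup.center ↥(Subgroup.centralizer ({z} : Set G)) :=
        Subgroup.mem_center_iff.2 fun g =>
          Subtype.ext (Subgroup.mem_centralizer_singleton_iff.1 g.2)
      set zc : ↥(Subgroup.centralizer ({z} : Set G)) := ⟨z, Subgroup.mem_centralizer_singleton_iff.2 rfl⟩ with hzc
      have hp : IsPGroup 2 ↥(Subgroup.zpowers zc) := IsPGroup.of_card (n := 1) (by
        rw [Nat.card_zpowers, ← Subgroup.orderOf_coe zc, pow_one]; exact hz)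
      haveI : (Subgroup.zpowers zc).Normal := ⟨fun x hx g => by
        obtain ⟨k, rfl⟩ := hx
        simp only [Subgroup.mem_center_iff.1 (zpow_mem hcz k) g, mul_inv_cancel_right]
        exact ⟨k, rfl⟩⟩
      have hsup := T.3 (hp.to_sup_of_normal_left T.2) le_sup_right
      rw [hP₁]
      exact ⟨zc, hsup ▸ (le_sup_left : Subgroup.zpowers zc ≤ _) (Subgroup.mem_zpowers _), rfl⟩
    have hBP : B ≤ (P₁ : Subgroup G) := sup_le hU.1 (by rw [Subgroup.zpowers_le]; exact hzP)
    have hset : B = Subgroup.closure ((A₁ : Set G) ∪ {z}) := by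
      rw [Subgroup.closure_union, Subgroup.closure_eq, ← Subgroup.zpowers_eq_closure]
    have hgen : ∀ x ∈ (A₁ : Set G) ∪ {z}, ∀ y ∈ (A₁ : Set G) ∪ {z}, x * y = y * x := by
      rintro x (hx | rfl) y (hy | rfl)
      · exact ea_comm hU.2.1 hx hy
      · exact hA₁C x hx
      · exact (hA₁C y hy).symm
      · rfl
    have hcomm : IsMulCommutative ↥B := hset ▸ Subgroup.isMulCommutative_closure hgen
    have hBe : IsElementaryAbelian 2 B := by
      refine ⟨hcomm, fun x hx => ?_⟩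
      rw [hset] at hx
      induction hx using Subgroup.closure_induction with
      | mem y hy =>
        rcases hy with hy | rfl
        · exact hU.2.1.2 y hy
        · rw [← hz, pow_orderOf_eq_one]
      | one => simp
      | mul a b ha hb iha ihb =>
        have hab : Commute a b := congrArg Subtype.val
          (hcomm.is_comm.comm ⟨a, hset ▸ ha⟩ ⟨b, hset ▸ hb⟩)
        rw [hab.mul_pow, iha, ihb, one_mul]
      | inv a _ iha => rw [inv_pow, iha, inv_one]
    have h := hU.2.2.2 B hBP hBe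
    have hge : n ≤ Nat.card B := hU.2.2.1 ▸ Subgroup.card_le_of_le (le_sup_left : A₁ ≤ B)
    rw [← h.2 (le_antisymm h.1 hge)]
    exact (le_sup_right : Subgroup.zpowers z ≤ B) (Subgroup.mem_zpowers z)
  obtain ⟨g, rfl⟩ := MulAction.exists_smul_eq G P₁ P
  have hUg : UniqueMax n ((g • P₁ : Sylow 2 G) : Subgroup G)
      (A₁.map (MulAut.conj g).toMonoidHom) := hU.conj g
  rw [thompson_eq hUg]
  refine ⟨hall, hUg, g, ⟨z, hzA, rfl⟩, fun x hx => ?_⟩
  have hx' : g⁻¹ * x * g ∈ (P₁ : Subgroup G) := mem_conj.1 hx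
  rw [hP₁] at hx'
  obtain ⟨y, -, hy⟩ := hx'
  have hy' := Subgroup.mem_centralizer_singleton_iff.1 y.2
  rw [show ((y : G)) = g⁻¹ * x * g from hy] at hy'
  calc x * (g * z * g⁻¹) = g * (g⁻¹ * x * g * z) * g⁻¹ := by group
    _ = g * (z * (g⁻¹ * x * g)) * g⁻¹ := by rw [hy']
    _ = _ := by group

end Setting

end FiLocal
end H33
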