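import Cfsg.Agent.H33.FiLocal.ModelCert
import Cfsg.Agent.H33.FiLocal.Count
import Cfsg.Agent.H59.Fischer.Thomp
import Cfsg.Agent.H16.Fi24.Class
import Cfsg.Agent.H16.Fi24.Orbits

/-!
Elements of the centraliser normalising the subgroup of lifts: conjugation, fibres of the projection
and the transitivity taken from the certificates.
-/

set_option autoImplicit false
set_option maxRecDepth 100000

namespace H33
namespace FiLocal

open H16.Fi24 H59.Fi24

universe u

variable {G : Type u} [Group G] [Finite G] {z : G}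
  {Q : Subgroup (Subgroup.centralizer ({z} : Set G))} [Q.Normal] (D : Model z Q)

/-- Elements whose image normalises the group of order 16. -/
def Lg : Subgroup (Subgroup.centralizer ({z} : Set G)) :=
  (Subgroup.normalizer (AA : Set (Equiv.Perm W))).comap D.ρ

theorem mem_norm_AA {g : Equiv.Perm W} :
    g ∈ Subgroup.normalizer (AA : Set (Equiv.Perm W)) ↔ ∀ a ∈ AA, g * a * g⁻¹ ∈ AA := by
  refine ⟨fun h a ha => (Subgroup.mem_normalizer_iff.1 h a).1 ha, fun h => ?_⟩
  rw [Subgroup.mem_normalizer_iff_map_conj_eq]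
  refine Subgroup.eq_of_le_of_card_ge ?_ ?_
  · rintro _ ⟨a, ha, rfl⟩
    exact h a ha
  · exact (Subgroup.card_map_of_injective (K := AA) (MulAut.conj g).injective).ge

theorem Lg_conj {g : Subgroup.centralizer ({z} : Set G)} (hg : g ∈ Lg D) :
    ∀ a ∈ AA, D.ρ g * a * (D.ρ g)⁻¹ ∈ AA := mem_norm_AA.1 hg

theorem Q_le_Lg : Q ≤ Lg D := fun x hx => by
  show D.ρ x ∈ Subgroup.normalizer (AA : Set (Equiv.Perm W))
  rw [rho_Q D hx]
  exact one_mem _

theorem Lg_U {g : Subgroup.centralizer ({z} : Set G)} (hg : g ∈ Lg D) {v : W} (hv : inU v) :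
    inU (D.ρ g v) := by
  have h := norm_U (g := D.ρ g⁻¹) (Lg_conj D (inv_mem hg)) hv
  rwa [map_inv, inv_inv] at h

theorem Lg_CC {g : Subgroup.centralizer ({z} : Set G)} (hg : g ∈ Lg D)
    {c : Subgroup.centralizer ({z} : Set G)} (hc : c ∈ CC D) : g * c * g⁻¹ ∈ CC D :=
  conj_CC D (fun _ hv => Lg_U D (inv_mem hg) hv) (Lg_conj D hg) hc

theorem Lg_normalizer {g : Subgroup.centralizer ({z} : Set G)} (hg : g ∈ Lg D) :
    (g : G) ∈ Subgroup.normalizer (AG D : Set G) := by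
  rw [Subgroup.mem_normalizer_iff_map_conj_eq]
  refine Subgroup.eq_of_le_of_card_ge ?_ ?_
  · rintro _ ⟨_, ⟨c, hc, rfl⟩, rfl⟩
    exact ⟨g * c * g⁻¹, Lg_CC D hg hc, by simp⟩
  · exact (Subgroup.card_map_of_injective (K := AG D) (MulAut.conj (g : G)).injective).ge

/-- Conjugacy under these elements. -/
def Rel (x y : Subgroup.centralizer ({z} : Set G)) : Prop := ∃ g ∈ Lg D, g * x * g⁻¹ = y

theorem Rel.refl (x : Subgroup.centralizer ({z} : Set G)) : Rel D x x := ⟨1, one_mem _, by group⟩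

variable {D} in
theorem Rel.symm {x y : Subgroup.centralizer ({z} : Set G)} (h : Rel D x y) : Rel D y x := by
  obtain ⟨g, hg, rfl⟩ := h
  exact ⟨g⁻¹, inv_mem hg, by group⟩

variable {D} in
theorem Rel.trans {x y w : Subgroup.centralizer ({z} : Set G)} (h : Rel D x y) (h' : Rel D y w) :
    Rel D x w := by
  obtain ⟨g, hg, rfl⟩ := h
  obtain ⟨g', hg', rfl⟩ := h'
  exact ⟨g' * g, mul_mem hg' hg, by group⟩

theorem rel_G {x y : Subgroup.centralizer ({z} : Set G)} (h : Rel D x y) :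
    ∃ m ∈ Subgroup.normalizer (AG D : Set G), m * (x : G) * m⁻¹ = y := by
  obtain ⟨g, hg, rfl⟩ := h
  exact ⟨g, Lg_normalizer D hg, by simp⟩

theorem phi_zc : D.Φ (zc z) = 0 := (D.eq_zero _ D.zc_mem).2 (Or.inr rfl)

theorem phi_mul_zc {x : Subgroup.centralizer ({z} : Set G)} (hx : x ∈ Q) : D.Φ (x * zc z) = D.Φ x := by
  rw [D.map_mul x hx _ D.zc_mem, phi_zc, add_zero]

theorem eq_or_zc {x y : Subgroup.centralizer ({z} : Set G)} (hx : x ∈ Q) (hy : y ∈ Q)
    (e : D.Φ x = D.Φ y) : x = y ∨ x = y * zc z := by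
  rcases D.eq_or_mul hx hy e with h | h
  · exact Or.inl (Subtype.ext h)
  · exact Or.inr (Subtype.ext h)

/-- Elements of the normal subgroup with related images are related. -/
theorem rel_of_phi {h x y : Subgroup.centralizer ({z} : Set G)} (hh : h ∈ Lg D) (hx : x ∈ Q)
    (hy : y ∈ Q) (hne : D.Φ y ≠ 0) (e : D.ρ h (D.Φ x) = D.Φ y) : Rel D x y := by
  rw [D.conj h x hx] at e
  have hx' : h * x * h⁻¹ ∈ Q := Subgroup.Normal.conj_mem inferInstance x hx h
  rcases eq_or_zc D hy hx' e.symm with e' | e'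
  · exact ⟨h, hh, e'.symm⟩
  · obtain ⟨w, hw, hwx⟩ := D.conj_mul_z hx' (e ▸ hne)
    refine ⟨w * h, mul_mem (Q_le_Lg D hw) hh, ?_⟩
    rw [e', ← hwx]
    group

/-- The six normalising elements. -/
def sP (i : ℕ) : Equiv.Perm W := wordP (U0.sW.getD i [])

theorem sP_key {i : ℕ} (hi : i < 6) : key (sP i) = U0.KS.getD i 0 := by
  rw [sP, key_wordP KT_ok, U0.sW_ok i hi]

theorem sP_norm {i : ℕ} (hi : i < 6) : sP i ∈ Subgroup.normalizer (AA : Set (Equiv.Perm W)) :=
  mem_norm_AA.2 fun a ha => by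
    obtain ⟨k, hk, e⟩ := U0.sW_norm i hi (key a) ha.2
    obtain ⟨p, hp, -, hkp⟩ := exists_four certA hk
    have hsK : sP i ∈ K0 := wordP_mem _
    have : sP i * a = p * sP i := key_K0_inj (mul_mem hsK ha.1) (mul_mem hp.1 hsK) (by
      rw [key_K0_mul hsK, key_K0_mul hp.1, sP_key hi, hkp, e])
    rw [this, mul_inv_cancel_right]
    exact hp

theorem exists_word : ∀ l : List ℕ, (∀ k ∈ l, k < 6) →
    ∃ g ∈ K0, g ∈ Subgroup.normalizer (AA : Set (Equiv.Perm W)) ∧
      (∀ x : W, code (g x) = U0.appL l (code x)) ∧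
      key g = l.foldr (fun k K => kmul (U0.KS.getD k 0) K) one := by
  intro l
  induction l with
  | nil => exact fun _ => ⟨1, one_mem _, one_mem _, fun x => rfl, key_one⟩
  | cons k l ih =>
    intro h
    obtain ⟨g, hg, hgn, hga, hgk⟩ := ih fun j hj => h j (List.mem_cons_of_mem _ hj)
    have hk := h k (List.mem_cons_self)
    refine ⟨sP k * g, mul_mem (wordP_mem _) hg, mul_mem (sP_norm hk) hgn, fun x => ?_, ?_⟩
    · rw [Equiv.Perm.mul_apply, ← appN_key (g := sP k) (isUni_K0 (wordP_mem _)), sP_key hk, hga]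
      rfl
    · rw [key_K0_mul (show sP k ∈ K0 from wordP_mem _), sP_key hk, hgk, List.foldr_cons]

theorem exists_Lg {g : Equiv.Perm W} (hg : g ∈ K0)
    (hn : g ∈ Subgroup.normalizer (AA : Set (Equiv.Perm W))) : ∃ h ∈ Lg D, D.ρ h = g := by
  obtain ⟨h, -, e⟩ := D.exists_rho hg
  exact ⟨h, show D.ρ h ∈ _ from e.symm ▸ hn, e⟩

/-- The stabiliser is transitive on the vectors of each class in the space. -/
theorem exists_move_U {k : ℕ} (hk : k = 2 ∨ k = 3) {u v : W} (hu : inU u) (hlu : lab u = k)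
    (hv : inU v) (hlv : lab v = k) : ∃ h ∈ Lg D, D.ρ h u = v := by
  have key : ∀ (tbl : List (ℕ × List ℕ)) (r : ℕ),
      (∀ p ∈ tbl, U0.appL p.2 r = p.1 ∧ (∀ k ∈ p.2, k < 6)) → r < 4096 →
      ∀ u : W, code u ∈ tbl.map Prod.fst → ∃ h ∈ Lg D, D.ρ h (dec r) = u := by
    intro tbl r hok hr u hu
    obtain ⟨p, hp, hpu⟩ := List.mem_map.1 hu
    obtain ⟨ha, hl⟩ := hok p hp
    obtain ⟨g, hg, hgn, hga, -⟩ := exists_word p.2 hl
    obtain ⟨h, hh, e⟩ := exists_Lg D hg hgn
    refine ⟨h, hh, ?_⟩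
    rw [e, ← dec_code (g (dec r)), hga, code_dec hr, ha, hpu, dec_code]
  have hmove : ∀ r : W, (∃ h ∈ Lg D, D.ρ h r = u) → (∃ h ∈ Lg D, D.ρ h r = v) →
      ∃ h ∈ Lg D, D.ρ h u = v := by
    rintro r ⟨h, hh, e⟩ ⟨h', hh', e'⟩
    refine ⟨h' * h⁻¹, mul_mem hh' (inv_mem hh), ?_⟩
    rw [map_mul, map_inv, Equiv.Perm.mul_apply, ← e, ← e', Equiv.Perm.inv_def, Equiv.symm_apply_apply]
  have hmem : ∀ w : W, inU w → lab w = k →
      if k = 2 then code w ∈ U0.tbl2.map Prod.fst else code w ∈ U0.tbl3.map Prod.fst := by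
    intro w hw hlw
    rcases U0.U_cases w hw with e | e | e
    · have h0 := (lab_cases w).1.2 e
      omega
    · obtain ⟨p, hp, hpw⟩ := List.mem_map.1 e
      have h2 := (U0.tbl2_ok p hp).2.2.2.1
      rw [hpw, dec_code, hlw] at h2
      rwa [if_pos h2]
    · obtain ⟨p, hp, hpw⟩ := List.mem_map.1 e
      have h2 := (U0.tbl3_ok p hp).2.2.2.1
      rw [hpw, dec_code, hlw] at h2
      rwa [if_neg (by omega)]
  have hu' := hmem u hu hlu
  have hv' := hmem v hv hlv
  rcases hk with rfl | rfl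
  · rw [if_pos rfl] at hu' hv'
    exact hmove _ (key _ 5 (fun p hp => ⟨(U0.tbl2_ok p hp).1, (U0.tbl2_ok p hp).2.1⟩) (by norm_num) u hu')
      (key _ 5 (fun p hp => ⟨(U0.tbl2_ok p hp).1, (U0.tbl2_ok p hp).2.1⟩) (by norm_num) v hv')
  · rw [if_neg (by norm_num)] at hu' hv'
    exact hmove _ (key _ 85 (fun p hp => ⟨(U0.tbl3_ok p hp).1, (U0.tbl3_ok p hp).2.1⟩) (by norm_num) u hu')
      (key _ 85 (fun p hp => ⟨(U0.tbl3_ok p hp).1, (U0.tbl3_ok p hp).2.1⟩) (by norm_num) v hv')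

theorem ncard_U_lab {k : ℕ} (hk : k = 2 ∨ k = 3) :
    {v : W | inU v ∧ lab v = k}.ncard = if k = 2 then 18 else 45 := by
  classical
  have hinj : Function.Injective code := fun a b e => by rw [← dec_code a, e, dec_code]
  rw [← Set.ncard_image_of_injective _ hinj]
  obtain ⟨n2, l2, n3, l3⟩ := U0.tbl_nodup
  have main : ∀ (tbl : List (ℕ × List ℕ)) (k : ℕ), (tbl.map Prod.fst).Nodup →
      (∀ p ∈ tbl, inU (dec p.1) ∧ lab (dec p.1) = k ∧ p.1 < 4096) →
      (∀ v : W, inU v → lab v = k → code v ∈ tbl.map Prod.fst) →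
      (code '' {v : W | inU v ∧ lab v = k}).ncard = tbl.length := by
    intro tbl k hnd hok hall
    rw [← List.length_map (f := Prod.fst), ← List.toFinset_card_of_nodup hnd, ← Set.ncard_coe_finset]
    congr 1
    ext c
    simp only [Set.mem_image, Set.mem_setOf_eq, List.coe_toFinset]
    constructor
    · rintro ⟨v, ⟨hv, hl⟩, rfl⟩
      exact hall v hv hl
    · intro hc
      obtain ⟨p, hp, rfl⟩ := List.mem_map.1 hc
      exact ⟨dec p.1, ⟨(hok p hp).1, (hok p hp).2.1⟩, code_dec (hok p hp).2.2⟩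
  rcases hk with rfl | rfl
  · rw [main U0.tbl2 2 n2 (fun p hp => ((U0.tbl2_ok p hp).2.2)) fun v hv hl => ?_, l2, if_pos rfl]
    rcases U0.U_cases v hv with e | e | e
    · have := (lab_cases v).1.2 e; omega
    · exact e
    · obtain ⟨p, hp, hpw⟩ := List.mem_map.1 e
      have h2 := (U0.tbl3_ok p hp).2.2.2.1
      rw [hpw, dec_code] at h2
      omega
  · rw [main U0.tbl3 3 n3 (fun p hp => ((U0.tbl3_ok p hp).2.2)) fun v hv hl => ?_, l3,
      if_neg (by norm_num)]
    rcases U0.U_cases v hv with e | e | e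
    · have := (lab_cases v).1.2 e; omega
    · obtain ⟨p, hp, hpw⟩ := List.mem_map.1 e
      have h2 := (U0.tbl2_ok p hp).2.2.2.1
      rw [hpw, dec_code] at h2
      omega
    · exact e

/-- A preimage of a set of images is twice as large. -/
theorem ncard_fibre (hz : orderOf z = 2) (S : Set W) :
    {x : Subgroup.centralizer ({z} : Set G) | x ∈ Q ∧ D.Φ x ∈ S}.ncard = 2 * S.ncard := by
  classical
  choose lift hlift hlifte using D.surj
  have hzc1 : zc z ≠ 1 := fun e => by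
    have := congrArg Subtype.val e
    simp only [zc, Subgroup.coe_one] at this
    rw [this, orderOf_one] at hz; omega
  let f : ↥S × Bool → ↥{x : Subgroup.centralizer ({z} : Set G) | x ∈ Q ∧ D.Φ x ∈ S} := fun p =>
    ⟨if p.2 then lift p.1 * zc z else lift p.1, by
      split
      · exact ⟨mul_mem (hlift _) D.zc_mem, by rw [phi_mul_zc D (hlift _), hlifte]; exact p.1.2⟩
      · exact ⟨hlift _, by rw [hlifte]; exact p.1.2⟩⟩
  have hf : ∀ p, D.Φ (f p).1 = p.1.1 := by
    rintro ⟨s, b⟩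
    cases b
    · exact hlifte _
    · exact (phi_mul_zc D (hlift _)).trans (hlifte _)
  have hbij : Function.Bijective f := by
    refine ⟨?_, ?_⟩
    · rintro ⟨s, b⟩ ⟨s', b'⟩ e
      have hs : s = s' := Subtype.ext (by rw [← hf (s, b), e, hf (s', b')])
      subst hs
      refine Prod.ext rfl ?_
      have e' := congrArg Subtype.val e
      cases b <;> cases b' <;> first
        | rfl
        | (simp only [f, Bool.false_eq_true, if_false, if_true] at e'
           exact absurd e' (by simpa using hzc1))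
    · rintro ⟨x, hx, hS⟩
      rcases eq_or_zc D hx (hlift (D.Φ x)) (hlifte _).symm with e | e
      · exact ⟨(⟨_, hS⟩, false), Subtype.ext e.symm⟩
      · exact ⟨(⟨_, hS⟩, true), Subtype.ext e.symm⟩
  rw [← Nat.card_coe_set_eq, ← Nat.card_congr (Equiv.ofBijective f hbij), Nat.card_prod,
    Nat.card_coe_set_eq, Nat.card_eq_fintype_card (α := Bool), Fintype.card_bool, mul_comm]

end FiLocal
end H33
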